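import Cfsg.Agent.Kinf.SectionCount
import Cfsg.Agent.Blocks.PSolvablePrincipal

/-!
# The principal block at the elements of prime power order with solvable centralizer
-/

set_option autoImplicit false
set_option linter.unusedSectionVars false
set_option linter.style.haveILetI false

namespace CfsgLib.PairRankTwo

open Finset CfsgLib.Block CfsgLib.Block.Chr CfsgLib.Char CfsgLib.SectionCount
open scoped ComplexConjugate

universe u

variable {G : Type u} [Group G] [Fintype G] {p : ℕ}
variable [Fintype (Cfsg.IrrCharacter G)] {M : Ideal Cfsg.AlgInt} [M.IsPrime]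

theorem sum_sq_deg_of_normal [DecidableEq G] (K : Subgroup G) [K.Normal] [DecidablePred (· ∈ K)]
    [DecidablePred fun χ : Cfsg.IrrCharacter G => ∀ n ∈ K, (χ : G → ℂ) n = (χ : G → ℂ) 1] :
    ∑ χ ∈ univ.filter fun χ : Cfsg.IrrCharacter G => ∀ n ∈ K, (χ : G → ℂ) n = (χ : G → ℂ) 1,
      (χ : G → ℂ) 1 * conj ((χ : G → ℂ) 1) = (K.index : ℂ) := by
  classical
  have e1 := blockCoeff_normal K (1 : G)
  rw [if_pos (one_mem K), blockCoeff_eq_sum] at e1
  have hG : (Nat.card G : ℂ) ≠ 0 := Nat.cast_ne_zero.2 Nat.card_pos.ne'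
  have hK : (Nat.card K : ℂ) ≠ 0 := Nat.cast_ne_zero.2 Nat.card_pos.ne'
  have h2 : (K.index : ℂ) * (Nat.card K : ℂ) = (Nat.card G : ℂ) := by
    rw [← Nat.cast_mul, K.index_mul_card]
  field_simp at e1
  simp only [Set.mem_setOf_eq] at e1
  refine mul_right_cancel₀ hK ?_
  rw [h2]
  linear_combination e1

variable {x : G} {k : ℕ} [DecidablePred (· ∈ Cfsg.principalBlock M G)]

theorem sum_sq_B (hM : Cfsg.IsPModular p M) (hx : orderOf x = p ^ k)
    (hs : Group.IsSolvable (Subgroup.centralizer ({x} : Set G))) :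
    ∑ χ ∈ univ.filter (· ∈ Cfsg.principalBlock M G), (χ : G → ℂ) x * conj ((χ : G → ℂ) x) =
      ((core p x).index : ℂ) := by
  classical
  haveI : Fact p.Prime := ⟨hM.1⟩
  haveI : Fintype (Subgroup.centralizer ({x} : Set G)) := Fintype.ofFinite _
  letI := irrFintype (G := Subgroup.centralizer ({x} : Set G))
  haveI : (core p x).Normal := CfsgLib.Solvable.pPrimeCore_normal p
  have h1 : ¬ p ∣ orderOf (1 : Subgroup.centralizer ({x} : Set G)) := by
    rw [orderOf_one]; exact hM.1.not_dvd_one
  have h := principal_section_kernel hM hx (1 : Subgroup.centralizer ({x} : Set G)) 1 h1 h1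
  simp only [OneMemClass.coe_one, mul_one] at h
  rw [h, ← sum_sq_deg_of_normal (core p x)]
  refine Finset.sum_congr (Finset.filter_congr fun φ _ => ?_) fun _ _ => rfl
  exact (principalBlock_of_constrained hM selfCent_quotient_of_solvable).1 φ

theorem T_eq_zero_of_solvable (hM : Cfsg.IsPModular p M) (hx : orderOf x = p ^ k)
    (hs : Group.IsSolvable (Subgroup.centralizer ({x} : Set G))) {χ : Cfsg.IrrCharacter G}
    (hχ : χ ∉ Cfsg.principalBlock M G) : T p x χ = 0 := by
  classical
  have hall := sum_sq_T (G := G) hM.1 hx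
  have hB : ∑ ζ ∈ univ.filter (· ∈ Cfsg.principalBlock M G), T p x ζ * conj (T p x ζ) =
      (Nat.card (core p x) : ℂ) * Nat.card (Subgroup.centralizer ({x} : Set G)) := by
    calc ∑ ζ ∈ univ.filter (· ∈ Cfsg.principalBlock M G), T p x ζ * conj (T p x ζ)
        = ∑ ζ ∈ univ.filter (· ∈ Cfsg.principalBlock M G),
            ((Nat.card (core p x) : ℂ) * Nat.card (core p x)) *
              ((ζ : G → ℂ) x * conj ((ζ : G → ℂ) x)) := Finset.sum_congr rfl fun ζ hζ => by
          rw [T_principal hM hx (mem_filter.1 hζ).2, map_mul, map_natCast]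
          ring
      _ = _ := by
          rw [← Finset.mul_sum, sum_sq_B hM hx hs, mul_assoc, ← Nat.cast_mul,
            mul_comm (Nat.card (core p x)), Subgroup.index_mul_card]
  rw [← Finset.sum_filter_add_sum_filter_not univ (· ∈ Cfsg.principalBlock M G), hB,
    add_eq_left] at hall
  have hre := congrArg Complex.re hall
  simp only [Complex.mul_conj, Complex.re_sum, Complex.ofReal_re, Complex.zero_re] at hre
  exact Complex.normSq_eq_zero.1
    ((Finset.sum_eq_zero_iff_of_nonneg fun ζ _ => Complex.normSq_nonneg _).1 hre χ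
      (mem_filter.2 ⟨mem_univ _, hχ⟩))

theorem sum_mul_B_of_not_isConj (hM : Cfsg.IsPModular p M) {y : G} {l : ℕ}
    (hx : orderOf x = p ^ k) (hy : orderOf y = p ^ l)
    (hs : Group.IsSolvable (Subgroup.centralizer ({x} : Set G))) (hne : ¬ IsConj x y) :
    ∑ χ ∈ univ.filter (· ∈ Cfsg.principalBlock M G), (χ : G → ℂ) x * conj ((χ : G → ℂ) y) = 0 := by
  classical
  haveI : Fintype (core p x) := Fintype.ofFinite _
  haveI : Fintype (core p y) := Fintype.ofFinite _
  have h0 : ∑ χ : Cfsg.IrrCharacter G, T p x χ * conj (T p y χ) = 0 := by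
    simp only [T_eq_sum, map_sum, Finset.sum_mul_sum]
    rw [Finset.sum_comm]
    refine Finset.sum_eq_zero fun v _ => ?_
    rw [Finset.sum_comm]
    refine Finset.sum_eq_zero fun w _ => ?_
    rw [column_orth, if_neg]
    intro h
    obtain ⟨c, hc⟩ := isConj_iff.1 h
    have hcomm : Commute x ((v : Subgroup.centralizer ({x} : Set G)) : G) :=
      (Subgroup.mem_centralizer_singleton_iff.1 v.1.2).symm
    have hg : c * x * c⁻¹ * (c * ((v : Subgroup.centralizer ({x} : Set G)) : G) * c⁻¹) =
        y * ((w : Subgroup.centralizer ({y} : Set G)) : G) := by rw [← hc]; group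
    refine hne (isConj_iff.2 ⟨c, (pPart_unique hM.1 (isPPart_mul hM.1 hy _ (not_dvd_orderOf hM.1 w.2))
      hg (hcomm.map (MulAut.conj c)) (n := k)
      (by rw [conj_pow, ← hx, pow_orderOf_eq_one]; simp)
      (m := orderOf (v : Subgroup.centralizer ({x} : Set G))) (not_dvd_orderOf hM.1 v.2)
      (by rw [conj_pow, ← Subgroup.orderOf_coe, pow_orderOf_eq_one]; simp)).symm⟩)
  rw [← Finset.sum_filter_add_sum_filter_not univ (· ∈ Cfsg.principalBlock M G),
    Finset.sum_eq_zero (s := univ.filter fun χ => ¬χ ∈ Cfsg.principalBlock M G) fun χ hχ => by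
      rw [T_eq_zero_of_solvable hM hx hs (mem_filter.1 hχ).2, zero_mul], add_zero,
    Finset.sum_congr rfl fun χ hχ => by
      rw [T_principal hM hx (mem_filter.1 hχ).2, T_principal hM hy (mem_filter.1 hχ).2, map_mul,
        map_natCast, mul_mul_mul_comm],
    ← Finset.mul_sum] at h0
  exact (mul_eq_zero.1 h0).resolve_left
    (mul_ne_zero (Nat.cast_ne_zero.2 Nat.card_pos.ne') (Nat.cast_ne_zero.2 Nat.card_pos.ne'))

end CfsgLib.PairRankTwo
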