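import Cfsg.Agent.PairRankTwo.Pair
import Cfsg.Agent.Kinf.SectionCount

/-!
# The centralizer of an element of an abelian Sylow subgroup of order `p ^ a`
-/

set_option autoImplicit false
set_option linter.style.haveILetI false
set_option linter.unusedSectionVars false

namespace CfsgLib.PairRankTwo

open Subgroup CfsgLib.SectionCount

universe u

variable {G : Type u} [Group G] [Finite G] {p : ℕ} [Fact p.Prime]

/-- The centralizer of `P`, inside its normalizer. -/
abbrev centN (P : Subgroup G) : Subgroup (normalizer (P : Set G)) :=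
  (centralizer (P : Set G)).subgroupOf (normalizer (P : Set G))

/-- The centralizer of `x`, inside the normalizer of `P`. -/
abbrev stabN (P : Subgroup G) (x : G) : Subgroup (normalizer (P : Set G)) :=
  (centralizer ({x} : Set G)).subgroupOf (normalizer (P : Set G))

theorem centN_le_stabN {P : Subgroup G} {x : G} (hx : x ∈ P) : centN P ≤ stabN P x := fun _ hc =>
  mem_centralizer_singleton_iff.2 (mem_centralizer_iff.1 hc x hx).symm

theorem card_dvd_of_isPGroup (P : Sylow p G) {X : Type*} [Group X] [Finite X]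
    (hX : IsPGroup p X) (hd : Nat.card X ∣ Nat.card G) :
    Nat.card X ∣ Nat.card (P : Subgroup G) := by
  obtain ⟨n, hn⟩ := IsPGroup.iff_card.1 hX
  rw [hn] at hd ⊢
  rw [P.card_eq_multiplicity]
  exact pow_dvd_pow p
    ((Nat.Prime.pow_dvd_iff_le_factorization Fact.out Nat.card_pos.ne').1 hd)

section

variable (P : Sylow p G) {a : ℕ} (hcard : Nat.card (P : Subgroup G) = p ^ a)
  (hab : ∀ S : Subgroup G, IsPGroup p S → ∀ a ∈ S, ∀ b ∈ S, a * b = b * a)
  {x : G} (hx : x ∈ (P : Subgroup G))
  (hs : Group.IsSolvable (centralizer ({x} : Set G)))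

include hcard hab hx hs in
theorem local_structure :
    (core p x).index = p ^ a * (centN (P : Subgroup G)).relIndex (stabN (P : Subgroup G) x) ∧
      ∃ Q : Subgroup (centralizer ({x} : Set G)), core p x ≤ Q ∧
        Nat.card Q = Nat.card (core p x) * p ^ a ∧
        (∀ v : centralizer ({x} : Set G), (v : G) = x → v ∈ Q) ∧
        ∀ v ∈ Q, ¬ p ∣ orderOf v → v ∈ core p x := by
  classical
  haveI : Fintype (centralizer ({x} : Set G)) := Fintype.ofFinite _
  haveI hKn : (core p x).Normal := Solvable.pPrimeCore_normal p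
  set C := centralizer ({x} : Set G) with hC
  set K := core p x with hK
  have hKcop : (Nat.card K).Coprime p := Solvable.coprime_card_pPrimeCore p
  set π := QuotientGroup.mk' K with hπ
  have hc : CfsgLib.PConstrained.SelfCent p (C ⧸ K) := Block.selfCent_quotient_of_solvable
  have hPC : (P : Subgroup G) ≤ C := fun v hv =>
    mem_centralizer_singleton_iff.2 (hab _ P.2 v hv x hx)
  set P' : Subgroup C := (P : Subgroup G).subgroupOf C with hP'
  have hP'p : IsPGroup p P' := P.2.comap_of_injective _ C.subtype_injective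
  have hP'card : Nat.card P' = p ^ a := by
    rw [hP', Nat.card_congr (subgroupOfEquivOfLe hPC).toEquiv, hcard]
  have hab' : ∀ S : Subgroup (C ⧸ K), IsPGroup p S → ∀ a ∈ S, ∀ b ∈ S, a * b = b * a := by
    intro S hS a ha b hb
    obtain ⟨S', hS'⟩ := hS.exists_le_sylow
    obtain ⟨T, rfl⟩ := Sylow.mapSurjective_surjective (QuotientGroup.mk'_surjective K) p S'
    obtain ⟨a', ha', rfl⟩ := hS' ha
    obtain ⟨b', hb', rfl⟩ := hS' hb
    have := hab _ (T.2.map C.subtype) a' ⟨a', ha', rfl⟩ b' ⟨b', hb', rfl⟩
    rw [← map_mul, ← map_mul, show a' * b' = b' * a' from Subtype.ext this]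
  set R := Cfsg.pCore p (C ⧸ K) with hR
  have hRp : IsPGroup p R := Solvable.isPGroup_pCore p
  have hdisj : P' ⊓ K = ⊥ := ZJ.isPGroup_inf_coprime hP'p hKcop
  have himg : P'.map π = R := by
    refine Solvable.eq_of_le_of_card_le ?_ ?_
    · rintro _ ⟨v, hv, rfl⟩
      exact mem_pCore_of_abelian hc hab'
        ((hP'p.map π).to_le (zpowers_le.2 ⟨v, hv, rfl⟩))
    · have h1 : Nat.card R ∣ Nat.card (P : Subgroup G) := card_dvd_of_isPGroup P hRp
        ((R.card_subgroup_dvd_card.trans K.card_quotient_dvd_card).trans C.card_subgroup_dvd_card)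
      have h2 : Nat.card P' ≤ Nat.card (P'.map π) := by
        refine Nat.card_le_card_of_injective
          (fun v : P' => (⟨π v, v, v.2, rfl⟩ : P'.map π)) fun a b h => ?_
        have h' : π (a : C) = π b := congrArg Subtype.val h
        have hm : (a : C)⁻¹ * b ∈ P' ⊓ K :=
          ⟨P'.mul_mem (P'.inv_mem a.2) b.2, QuotientGroup.eq.1 h'⟩
        rw [hdisj, mem_bot, inv_mul_eq_one] at hm
        exact Subtype.ext hm
      rw [hP'card] at h2
      rw [hcard] at h1
      exact (Nat.le_of_dvd (pow_pos (Fact.out : p.Prime).pos a) h1).trans h2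
  have hRcard : Nat.card R = p ^ a := by
    refine le_antisymm ?_ ?_
    · have h1 : Nat.card R ∣ Nat.card (P : Subgroup G) := card_dvd_of_isPGroup P hRp
        ((R.card_subgroup_dvd_card.trans K.card_quotient_dvd_card).trans C.card_subgroup_dvd_card)
      rw [hcard] at h1
      exact Nat.le_of_dvd (pow_pos (Fact.out : p.Prime).pos a) h1
    · rw [← himg, ← hP'card]
      refine Nat.card_le_card_of_injective
        (fun v : P' => (⟨π v, v, v.2, rfl⟩ : P'.map π)) fun a b h => ?_
      have h' : π (a : C) = π b := congrArg Subtype.val h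
      have hm : (a : C)⁻¹ * b ∈ P' ⊓ K :=
        ⟨P'.mul_mem (P'.inv_mem a.2) b.2, QuotientGroup.eq.1 h'⟩
      rw [hdisj, mem_bot, inv_mul_eq_one] at hm
      exact Subtype.ext hm
  refine ⟨?_, R.comap π, fun v hv => ?_, ?_, fun v hv => ?_, fun v hv hreg => ?_⟩
  · -- the normalizer maps onto the quotient
    set S := stabN (P : Subgroup G) x with hS
    let ι : S →* C := ((normalizer ((P : Subgroup G) : Set G)).subtype.comp S.subtype).codRestrict C
      fun v => v.2
    set ψ : S →* C ⧸ K := π.comp ι with hψ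
    have hsurj : Function.Surjective ψ := by
      intro q
      obtain ⟨g, rfl⟩ := QuotientGroup.mk'_surjective K q
      have hsup : P' ⊔ K = R.comap π := by
        rw [← himg, Subgroup.comap_map_eq, QuotientGroup.ker_mk']
      have hg : g ∈ normalizer ((P' ⊔ K : Subgroup C) : Set C) := by
        rw [hsup, normalizer_eq_top_iff.2 ((Solvable.pCore_normal p).comap π)]
        exact mem_top _
      obtain ⟨k, hk, hkg⟩ := ZJ.exists_mul_mem_normalizer hP'p hKcop hg
      have hN : ((k * g : C) : G) ∈ normalizer ((P : Subgroup G) : Set G) := by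
        rw [mem_normalizer_iff_map_conj_eq]
        refine Solvable.eq_of_le_of_card_le ?_
          (Nat.card_congr ((P : Subgroup G).equivMapOfInjective _
            (MulAut.conj ((k * g : C) : G)).injective).toEquiv).le
        rintro _ ⟨v, hv, rfl⟩
        exact (mem_normalizer_iff.1 hkg ⟨v, hPC hv⟩).1 hv
      refine ⟨⟨⟨((k * g : C) : G), hN⟩, (k * g).2⟩, ?_⟩
      show π (k * g) = π g
      rw [map_mul, show π k = 1 from (QuotientGroup.eq_one_iff k).2 hk, one_mul]
    set CS : Subgroup S := (centN (P : Subgroup G)).subgroupOf S with hCS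
    have hker : ψ.ker ≤ CS := by
      intro n hn
      have hnK : ι n ∈ K := (QuotientGroup.eq_one_iff _).1 hn
      refine mem_centralizer_iff.2 fun v hv => ?_
      have hv' : (⟨v, hPC hv⟩ : C) ∈ P' := hv
      have hN : ((n : normalizer ((P : Subgroup G) : Set G)) : G) * v⁻¹ *
          ((n : normalizer ((P : Subgroup G) : Set G)) : G)⁻¹ ∈ (P : Subgroup G) :=
        (mem_normalizer_iff.1 n.1.2 _).1 ((P : Subgroup G).inv_mem hv)
      have h1 : (⟨v, hPC hv⟩ : C) * ι n * (⟨v, hPC hv⟩ : C)⁻¹ * (ι n)⁻¹ ∈ P' ⊓ K := by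
        refine ⟨?_, K.mul_mem (hKn.conj_mem _ hnK _) (K.inv_mem hnK)⟩
        have := (P : Subgroup G).mul_mem hv hN
        show v * _ * v⁻¹ * _ ∈ (P : Subgroup G)
        simpa [mul_assoc, ι] using this
      rw [hdisj, mem_bot, mul_inv_eq_one, mul_inv_eq_iff_eq_mul] at h1
      exact congrArg Subtype.val h1
    have hCSimg : CS.map ψ = R := by
      refine le_antisymm ?_ ?_
      · rintro _ ⟨n, hn, rfl⟩
        refine hc (mem_centralizer_iff.2 fun r hr => ?_)
        rw [← hR, ← himg] at hr
        obtain ⟨v, hv, rfl⟩ := hr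
        rw [hψ, MonoidHom.comp_apply, ← map_mul, ← map_mul]
        exact congrArg π (Subtype.ext (mem_centralizer_iff.1 hn (v : G) hv))
      · rw [← himg]
        rintro _ ⟨v, hv, rfl⟩
        refine ⟨⟨⟨v, le_normalizer hv⟩, v.2⟩, ?_, rfl⟩
        exact mem_centralizer_iff.2 fun w hw => hab _ P.2 w hw v hv
    have h1 : CS.index = (CS.map ψ).index := (CS.index_map_eq hsurj hker).symm
    rw [hCSimg] at h1
    have h2 : R.index * p ^ a = K.index := by
      rw [← hRcard, R.index_mul_card, Subgroup.index]
    rw [← h2, mul_comm, ← h1]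
    rfl
  · rw [mem_comap, show π v = 1 from (QuotientGroup.eq_one_iff v).2 hv]
    exact one_mem R
  · have h1 : (R.comap π).index = R.index := R.index_comap_of_surjective (QuotientGroup.mk'_surjective K)
    have h2 : Nat.card (C ⧸ K) * Nat.card K = Nat.card C := K.index_mul_card
    have h3 := (R.comap π).index_mul_card
    have h4 := R.index_mul_card
    rw [h1, ← h2, ← h4, hRcard] at h3
    have h5 : R.index * Nat.card (R.comap π) = R.index * (Nat.card K * p ^ a) := by rw [h3]; ring
    exact Nat.eq_of_mul_eq_mul_left (Nat.pos_of_ne_zero index_ne_zero_of_finite) h5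
  · rw [mem_comap, ← himg]
    exact ⟨v, by show (v : G) ∈ (P : Subgroup G); rw [hv]; exact hx, rfl⟩
  · have hv' : π v ∈ R := hv
    obtain ⟨j, hj⟩ := IsPGroup.iff_orderOf.1 hRp ⟨_, hv'⟩
    rw [orderOf_mk] at hj
    refine (QuotientGroup.eq_one_iff v).1 ?_
    show π v = 1
    rcases Nat.eq_zero_or_pos j with rfl | hj0
    · rwa [pow_zero, orderOf_eq_one_iff] at hj
    · exact absurd ((hj ▸ dvd_pow_self p hj0.ne').trans (orderOf_map_dvd π v)) hreg

include hcard hab hx hs in
theorem card_regular_le (hxo : orderOf x = p) :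
    Nat.card {v : centralizer ({x} : Set G) // ¬ p ∣ orderOf v} * p +
        Nat.card (core p x) * p ^ a ≤
      Nat.card (core p x) * p + Nat.card (core p x) * p ^ a *
        (centN (P : Subgroup G)).relIndex (stabN (P : Subgroup G) x) := by
  classical
  haveI : Fintype (centralizer ({x} : Set G)) := Fintype.ofFinite _
  have hp : p.Prime := Fact.out
  obtain ⟨hidx, Q, hKQ, hQcard, hxQ, hQreg⟩ := local_structure P hcard hab hx hs
  set K := core p x with hK
  set m := (centN (P : Subgroup G)).relIndex (stabN (P : Subgroup G) x) with hm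
  set xC : (centralizer ({x} : Set G)) := ⟨x, mem_centralizer_singleton_iff.2 rfl⟩
  have hxC : orderOf xC = p := by rw [← orderOf_coe]; exact hxo
  set Rg := Finset.univ.filter fun v : (centralizer ({x} : Set G)) => ¬ p ∣ orderOf v
  set Rout := Rg.filter (· ∉ Q)
  have h1 : (Rg.filter (· ∈ Q)).card ≤ Nat.card K := by
    rw [Nat.card_eq_fintype_card, Fintype.card_subtype]
    refine Finset.card_le_card fun v hv => ?_
    obtain ⟨hv, hvQ⟩ := Finset.mem_filter.1 hv
    exact Finset.mem_filter.2 ⟨Finset.mem_univ _, hQreg v hvQ (Finset.mem_filter.1 hv).2⟩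
  have h2 : Rout.card * p + Nat.card Q ≤ Nat.card (centralizer ({x} : Set G)) := by
    have hinj : Set.InjOn (fun vj : (centralizer ({x} : Set G)) × Fin p => vj.1 * xC ^ (vj.2 : ℕ))
        (Rout ×ˢ (Finset.univ : Finset (Fin p)) : Finset _) := by
      rintro ⟨v, i⟩ hv ⟨w, j⟩ hw h
      simp only [Finset.coe_product, Set.mem_prod, Finset.mem_coe] at hv hw
      simp only at h
      have hvr := (Finset.mem_filter.1 (Finset.mem_filter.1 hv.1).1).2
      have hwr := (Finset.mem_filter.1 (Finset.mem_filter.1 hw.1).1).2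
      have hcv : ∀ y : (centralizer ({x} : Set G)), Commute y xC := fun y => Subtype.ext (mem_centralizer_singleton_iff.1 y.2)
      set n := orderOf v * orderOf w
      have hn : ¬ p ∣ n := fun hd => (hp.dvd_mul.1 hd).elim hvr hwr
      have e := congrArg (· ^ n) h
      simp only [((hcv v).pow_right _).mul_pow, ((hcv w).pow_right _).mul_pow] at e
      rw [orderOf_dvd_iff_pow_eq_one.1 (dvd_mul_right _ _),
        orderOf_dvd_iff_pow_eq_one.1 (dvd_mul_left _ _), one_mul, one_mul, ← pow_mul, ← pow_mul,
        pow_eq_pow_iff_modEq, hxC] at e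
      have hij : i = j := Fin.ext ((Nat.ModEq.cancel_right_of_coprime (c := n)
        (hp.coprime_iff_not_dvd.2 hn) e).eq_of_lt_of_lt i.isLt j.isLt)
      subst hij
      exact Prod.ext (mul_right_cancel h) rfl
    have hsub : (Rout ×ˢ (Finset.univ : Finset (Fin p))).image
        (fun vj : (centralizer ({x} : Set G)) × Fin p => vj.1 * xC ^ (vj.2 : ℕ)) ⊆ Finset.univ.filter (· ∉ Q) := by
      intro y hy
      obtain ⟨⟨v, i⟩, hv, rfl⟩ := Finset.mem_image.1 hy
      refine Finset.mem_filter.2 ⟨Finset.mem_univ _, fun hyQ => ?_⟩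
      have h' := Q.mul_mem hyQ (Q.inv_mem (Q.pow_mem (hxQ xC rfl) (i : ℕ)))
      rw [mul_inv_cancel_right] at h'
      exact (Finset.mem_filter.1 (Finset.mem_product.1 hv).1).2 h'
    have h := Finset.card_le_card hsub
    rw [Finset.card_image_of_injOn hinj, Finset.card_product, Finset.card_univ, Fintype.card_fin] at h
    have h' : (Finset.univ.filter (· ∈ Q)).card + (Finset.univ.filter (· ∉ Q)).card = Nat.card (centralizer ({x} : Set G)) := by
      rw [Finset.card_filter_add_card_filter_not, Finset.card_univ, Nat.card_eq_fintype_card]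
    rw [Nat.card_eq_fintype_card (α := Q), Fintype.card_subtype]
    omega
  have hm1 : 1 ≤ m := Nat.pos_of_ne_zero fun h0 => by
    rw [h0, mul_zero] at hidx
    exact index_ne_zero_of_finite hidx
  have h3 : Nat.card (centralizer ({x} : Set G)) = Nat.card K * p ^ a * m := by
    rw [← K.index_mul_card, hidx]; ring
  rw [h3, hQcard] at h2
  have h5 : Nat.card {v : (centralizer ({x} : Set G)) // ¬ p ∣ orderOf v} = (Rg.filter (· ∈ Q)).card + Rout.card := by
    rw [Finset.card_filter_add_card_filter_not, Nat.card_eq_fintype_card, Fintype.card_subtype]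
  rw [h5, add_mul]
  have h6 := Nat.mul_le_mul_right p h1
  omega

end

end CfsgLib.PairRankTwo
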