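import Cfsg.Agent.PairRankTwo.Block
import Cfsg.Agent.PairRankTwo.Local
import Cfsg.Agent.Blocks.TraceFormula

/-!
# Character sums over singular elements
-/

set_option autoImplicit false
set_option linter.style.haveILetI false
set_option linter.unusedSectionVars false

namespace CfsgLib.PairRankTwo

open Finset CfsgLib.Block CfsgLib.Block.Chr CfsgLib.Char CfsgLib.SectionCount
open scoped ComplexConjugate

universe u

variable {G : Type u} [Group G] [Fintype G] {p : ℕ}

/-- The elements of order divisible by `p`. -/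
noncomputable def sing (G : Type u) [Group G] [Fintype G] (p : ℕ) : Finset G :=
  univ.filter fun g => p ∣ orderOf g

theorem mem_sing {g : G} : g ∈ sing G p ↔ p ∣ orderOf g := by simp [sing]

/-- The nontrivial elements of a subgroup. -/
noncomputable def psharp (P : Subgroup G) : Finset G :=
  letI : DecidablePred fun g : G => g ∈ P ∧ g ≠ 1 := Classical.decPred _
  univ.filter fun g => g ∈ P ∧ g ≠ 1

theorem mem_psharp {P : Subgroup G} {g : G} : g ∈ psharp P ↔ g ∈ P ∧ g ≠ 1 := by simp [psharp]

theorem card_psharp (P : Subgroup G) : (psharp P).card + 1 = Nat.card P := by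
  classical
  have : Finset.univ.filter (· ∈ P) = insert (1 : G) (psharp P) := by
    ext g
    rw [mem_filter, mem_insert, mem_psharp]
    by_cases h : g = 1 <;> simp [h, one_mem]
  rw [Nat.card_eq_fintype_card, Fintype.card_subtype, this, card_insert_of_notMem]
  rw [mem_psharp]; simp

theorem orderOf_of_mem_psharp [Fact p.Prime] {P : Subgroup G}
    (hexp : ∀ x ∈ P, x ^ p = 1) {g : G} (hg : g ∈ psharp P) : orderOf g = p :=
  orderOf_eq_prime (hexp g (mem_psharp.1 hg).1) (mem_psharp.1 hg).2

variable [Fintype (Cfsg.IrrCharacter G)]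

/-- The sum of a character over the singular elements. -/
noncomputable def sumSing (p : ℕ) (χ : Cfsg.IrrCharacter G) : ℂ :=
  ∑ z ∈ sing G p, (χ : G → ℂ) z

/-- Counting the singular translates of the singular elements. -/
theorem sum_translate (y : G) :
    ∑ χ : Cfsg.IrrCharacter G,
      (χ : G → ℂ) y * (sumSing p χ * conj (sumSing p χ)) / (χ : G → ℂ) 1 =
      (Nat.card G : ℂ) * (((sing G p).filter fun z => p ∣ orderOf (y * z)).card : ℂ) := by
  classical
  let ι : G → ℂ := fun g => if p ∣ orderOf g then 1 else 0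
  have hι : Cfsg.IsClassFunction G ι := fun g x => by
    simp only [ι]
    rw [show orderOf (x * g * x⁻¹) = orderOf g from (MulAut.conj x).orderOf_eq g]
  have hinner : ∀ χ : Cfsg.IrrCharacter G,
      (Nat.card G : ℂ) * Cfsg.classInner ι (χ : G → ℂ) = conj (sumSing p χ) := by
    intro χ
    rw [Cfsg.classInner, ← mul_assoc, mul_inv_cancel₀ (Nat.cast_ne_zero.2 Nat.card_pos.ne'), one_mul,
      sumSing, sing, map_sum, Finset.sum_filter]
    exact Finset.sum_congr rfl fun g _ => by simp only [ι, ite_mul, one_mul, zero_mul]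
  have hkey : ∀ χ : Cfsg.IrrCharacter G,
      (∑ z ∈ sing G p, (χ : G → ℂ) (z * y)) * (χ : G → ℂ) 1 =
        sumSing p χ * (χ : G → ℂ) y := by
    intro χ
    have h := class_mul χ hι (fun k => if k = y then 1 else 0)
    simp only [mul_ite, mul_one, mul_zero, ite_mul, one_mul, zero_mul, Finset.sum_ite_eq',
      Finset.mem_univ, if_true, ι] at h
    rw [← Finset.sum_filter, ← Finset.sum_filter] at h
    exact h
  calc ∑ χ : Cfsg.IrrCharacter G,
        (χ : G → ℂ) y * (sumSing p χ * conj (sumSing p χ)) / (χ : G → ℂ) 1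
      = ∑ χ : Cfsg.IrrCharacter G, ∑ z ∈ sing G p,
          (Nat.card G : ℂ) * (Cfsg.classInner ι (χ : G → ℂ) * (χ : G → ℂ) (z * y)) := by
        refine Finset.sum_congr rfl fun χ _ => ?_
        rw [← Finset.mul_sum, ← Finset.mul_sum, ← mul_assoc (Nat.card G : ℂ), hinner,
          div_eq_iff (irr_one_ne_zero χ)]
        linear_combination (-conj (sumSing p χ)) * hkey χ
    _ = _ := by
        rw [Finset.sum_comm]
        simp only [← Finset.mul_sum]
        congr 1
        rw [← Finset.sum_boole]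
        refine Finset.sum_congr rfl fun z _ => ?_
        rw [← classFun_expand hι (z * y)]
        simp only [ι]
        rw [show orderOf (z * y) = orderOf (y * z) by
          conv_rhs => rw [← (MulAut.conj z).orderOf_eq (y * z)]
          simp [mul_assoc]]

theorem sum_sq_sumSing :
    ∑ χ : Cfsg.IrrCharacter G, Complex.normSq (sumSing p χ) =
      (Nat.card G : ℝ) * (sing G p).card := by
  classical
  have h := sum_translate (G := G) (p := p) 1
  have hc : ((sing G p).filter fun z => p ∣ orderOf ((1 : G) * z)) = sing G p :=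
    Finset.filter_true_of_mem fun z hz => by rw [one_mul]; exact mem_sing.1 hz
  rw [hc] at h
  apply Complex.ofReal_injective
  push_cast
  rw [← h]
  exact Finset.sum_congr rfl fun χ _ => by
    rw [mul_div_assoc, mul_comm, div_mul_cancel₀ _ (irr_one_ne_zero χ), Complex.mul_conj]

section Sylow

variable [Fact p.Prime] (P : Sylow p G) {e : ℕ} (hcard : Nat.card (P : Subgroup G) = p ^ e)
  (hexp : ∀ x ∈ (P : Subgroup G), x ^ p = 1)
  (hab : ∀ S : Subgroup G, IsPGroup p S → ∀ a ∈ S, ∀ b ∈ S, a * b = b * a)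
  (hsolC : ∀ x : G, x ≠ 1 → Group.IsSolvable (Subgroup.centralizer ({x} : Set G)))
  {M : Ideal Cfsg.AlgInt} [M.IsPrime] (hM : Cfsg.IsPModular p M)
  [DecidablePred (· ∈ Cfsg.principalBlock M G)]

/-- The sum of a character over the nontrivial elements of `P`. -/
noncomputable def sumP (χ : Cfsg.IrrCharacter G) : ℂ :=
  ∑ u ∈ psharp (P : Subgroup G), (χ : G → ℂ) u

/-- The principal block. -/
noncomputable def blockSet (G : Type u) [Group G] [Fintype G] [Fintype (Cfsg.IrrCharacter G)]
    (M : Ideal Cfsg.AlgInt) [DecidablePred (· ∈ Cfsg.principalBlock M G)] :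
    Finset (Cfsg.IrrCharacter G) :=
  univ.filter (· ∈ Cfsg.principalBlock M G)

include hexp hsolC hM hab in
theorem weighted_lower (hpair : ∀ a b : G, Group.IsSolvable (Subgroup.closure ({a, b} : Set G))) :
    ((Nat.card G : ℝ) * (sing G p).card) * ((p - 2 : ℕ) : ℝ) * (psharp (P : Subgroup G)).card ≤
      ((p - 1 : ℕ) : ℝ) * ∑ χ ∈ blockSet G M,
        (sumP P χ).re * Complex.normSq (sumSing p χ) / ((χ : G → ℂ) 1).re := by
  classical
  have hp : p.Prime := Fact.out
  let n : ∀ u : G, G → ℕ := fun u k => ((sing G p).filter fun z => p ∣ orderOf (u * k * z)).card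
  let f : G → ℝ := fun u => (Nat.card (core p u) : ℝ)⁻¹ *
    ∑ᶠ v : core p u, (n u ((v : Subgroup.centralizer ({u} : Set G)) : G) : ℝ)
  have hval : ∀ u ∈ psharp (P : Subgroup G),
      ∑ χ ∈ blockSet G M, ((χ : G → ℂ) u).re * Complex.normSq (sumSing p χ) / ((χ : G → ℂ) 1).re =
        (Nat.card G : ℝ) * f u := by
    intro u hu
    haveI : Fintype (core p u) := Fintype.ofFinite _
    have hu1 := (mem_psharp.1 hu).2
    have hx : orderOf u = p ^ 1 := by rw [pow_one]; exact orderOf_of_mem_psharp hexp hu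
    have h : ∑ χ : Cfsg.IrrCharacter G,
        T p u χ * (sumSing p χ * conj (sumSing p χ)) / (χ : G → ℂ) 1 =
        (Nat.card G : ℂ) * ∑ v : core p u,
          (n u ((v : Subgroup.centralizer ({u} : Set G)) : G) : ℂ) := by
      simp only [T_eq_sum, Finset.sum_mul, Finset.sum_div]
      rw [Finset.sum_comm, Finset.mul_sum]
      exact Finset.sum_congr rfl fun v _ => sum_translate _
    rw [← Finset.sum_filter_add_sum_filter_not univ (· ∈ Cfsg.principalBlock M G),
      Finset.sum_eq_zero (s := univ.filter fun χ => ¬χ ∈ Cfsg.principalBlock M G) fun χ hχ => by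
        rw [T_eq_zero_of_solvable hM hx (hsolC u hu1) (mem_filter.1 hχ).2, zero_mul, zero_div],
      add_zero] at h
    have hK : (Nat.card (core p u) : ℝ) ≠ 0 := Nat.cast_ne_zero.2 Nat.card_pos.ne'
    rw [show f u = (Nat.card (core p u) : ℝ)⁻¹ * ∑ v : core p u,
        (n u ((v : Subgroup.centralizer ({u} : Set G)) : G) : ℝ) from
      congrArg _ (finsum_eq_sum_of_fintype _)]
    have h' := congrArg Complex.re h
    rw [← mul_left_comm (Nat.card (core p u) : ℝ)⁻¹, eq_inv_mul_iff_mul_eq₀ hK, Finset.mul_sum]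
    calc ∑ χ ∈ blockSet G M, (Nat.card (core p u) : ℝ) *
          (((χ : G → ℂ) u).re * Complex.normSq (sumSing p χ) / ((χ : G → ℂ) 1).re)
        = ∑ χ ∈ blockSet G M,
            (T p u χ * (sumSing p χ * conj (sumSing p χ)) / (χ : G → ℂ) 1).re := by
          refine Finset.sum_congr rfl fun χ hχ => ?_
          rw [T_principal hM hx (mem_filter.1 hχ).2, Complex.mul_conj, (irr_one χ).1,
            Complex.natCast_re, ← Complex.ofReal_natCast (Cfsg.charDegree _), Complex.div_ofReal_re,
            Complex.mul_re, Complex.mul_re, Complex.natCast_im, Complex.natCast_re,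
            Complex.ofReal_re, Complex.ofReal_im]
          ring
      _ = _ := by
          rw [← Complex.re_sum]
          refine h'.trans ?_
          rw [← Nat.cast_sum, ← Nat.cast_sum, ← Nat.cast_mul, Complex.natCast_re, Nat.cast_mul]
  have hsum : ∑ χ ∈ blockSet G M,
      (sumP P χ).re * Complex.normSq (sumSing p χ) / ((χ : G → ℂ) 1).re =
        (Nat.card G : ℝ) * ∑ u ∈ psharp (P : Subgroup G), f u := by
    rw [Finset.mul_sum, ← Finset.sum_congr rfl hval, Finset.sum_comm]
    exact Finset.sum_congr rfl fun χ _ => by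
      rw [sumP, Complex.re_sum, Finset.sum_mul, Finset.sum_div]
  -- each cyclic subgroup contributes `p - 2` singular translates
  have hf : ∀ u ∈ psharp (P : Subgroup G),
      (((p - 2) * (sing G p).card : ℕ) : ℝ) ≤ ∑ t ∈ Finset.Ico 1 p, f (u ^ t) := by
    intro u hu
    have hu1 := (mem_psharp.1 hu).2
    have huo := orderOf_of_mem_psharp hexp hu
    haveI : Fintype (core p u) := Fintype.ofFinite _
    have hcent : ∀ t ∈ Finset.Ico 1 p, Subgroup.centralizer ({u ^ t} : Set G) =
        Subgroup.centralizer ({u} : Set G) := by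
      intro t ht
      obtain ⟨ht1, ht2⟩ := Finset.mem_Ico.1 ht
      obtain ⟨c, hc⟩ := exists_pow_eq_self_of_coprime (x := u) (n := t) (by
        rw [huo]; exact (hp.coprime_iff_not_dvd.2 (Nat.not_dvd_of_pos_of_lt ht1 ht2)).symm)
      ext g
      simp only [Subgroup.mem_centralizer_singleton_iff]
      refine ⟨fun h => ?_, fun h => (Commute.pow_right h t).eq⟩
      rw [← hc]
      exact (Commute.pow_right h c).eq
    have hft : ∀ t ∈ Finset.Ico 1 p, f (u ^ t) = (Nat.card (core p u) : ℝ)⁻¹ *
        ∑ v : core p u, (n (u ^ t) ((v : Subgroup.centralizer ({u} : Set G)) : G) : ℝ) := by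
      intro t ht
      have key : ∀ (C C' : Subgroup G), C = C' → ∀ w : G → ℝ,
          (Nat.card (Cfsg.pPrimeCore p C) : ℝ)⁻¹ * ∑ᶠ v : Cfsg.pPrimeCore p C, w ((v : C) : G) =
            (Nat.card (Cfsg.pPrimeCore p C') : ℝ)⁻¹ *
              ∑ᶠ v : Cfsg.pPrimeCore p C', w ((v : C') : G) := by
        rintro C C' rfl w; rfl
      rw [show f (u ^ t) = _ from key _ _ (hcent t ht) fun g => (n (u ^ t) g : ℝ),
        finsum_eq_sum_of_fintype]
    rw [Finset.sum_congr rfl hft, ← Finset.mul_sum, Finset.sum_comm,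
      le_inv_mul_iff₀ (Nat.cast_pos.2 Nat.card_pos)]
    have hge : ∀ v : core p u, (((p - 2) * (sing G p).card : ℕ) : ℝ) ≤
        ∑ t ∈ Finset.Ico 1 p, (n (u ^ t) ((v : Subgroup.centralizer ({u} : Set G)) : G) : ℝ) := by
      intro v
      rw [← Nat.cast_sum, Nat.cast_le]
      simp only [n, Finset.card_filter]
      rw [Finset.sum_comm, mul_comm]
      rw [← smul_eq_mul]
      refine Finset.card_nsmul_le_sum _ _ _ fun z hz => ?_
      rw [← Finset.card_filter]
      set A := (Finset.Ico 1 p).filter fun t =>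
        ¬ p ∣ orderOf (u ^ t * ((v : Subgroup.centralizer ({u} : Set G)) : G) * z)
      have hA : A.card ≤ 1 := Finset.card_le_one.2 fun s hs t ht => by
        obtain ⟨hs, hs'⟩ := Finset.mem_filter.1 hs
        obtain ⟨ht, ht'⟩ := Finset.mem_filter.1 ht
        have := pow_eq_of_regular hab hpair huo v.2 (mem_sing.1 hz) hs' ht'
        rw [pow_eq_pow_iff_modEq, huo] at this
        exact this.eq_of_lt_of_lt (Finset.mem_Ico.1 hs).2 (Finset.mem_Ico.1 ht).2
      have hsplit := Finset.card_filter_add_card_filter_not (s := Finset.Ico 1 p)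
        (fun t => p ∣ orderOf (u ^ t * ((v : Subgroup.centralizer ({u} : Set G)) : G) * z))
      rw [Nat.card_Ico] at hsplit
      change _ + A.card = _ at hsplit
      omega
    calc (Nat.card (core p u) : ℝ) * (((p - 2) * (sing G p).card : ℕ) : ℝ)
        = ∑ _v : core p u, (((p - 2) * (sing G p).card : ℕ) : ℝ) := by
          rw [Finset.sum_const, card_univ, nsmul_eq_mul, Nat.card_eq_fintype_card]
      _ ≤ _ := Finset.sum_le_sum fun v _ => hge v
  have hperm : ∀ t ∈ Finset.Ico 1 p,
      ∑ u ∈ psharp (P : Subgroup G), f (u ^ t) = ∑ u ∈ psharp (P : Subgroup G), f u := by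
    intro t ht
    obtain ⟨ht1, ht2⟩ := Finset.mem_Ico.1 ht
    have hnd := Nat.not_dvd_of_pos_of_lt ht1 ht2
    have hmaps : ∀ u ∈ psharp (P : Subgroup G), u ^ t ∈ psharp (P : Subgroup G) := fun u hu =>
      mem_psharp.2 ⟨pow_mem (mem_psharp.1 hu).1 t, fun h => hnd
        (orderOf_of_mem_psharp hexp hu ▸ orderOf_dvd_of_pow_eq_one h)⟩
    obtain ⟨c, hc⟩ : ∃ c, (t * c) % p = 1 := by
      obtain ⟨c, -, hc⟩ := Nat.exists_mul_mod_eq_one_of_coprime
        ((hp.coprime_iff_not_dvd.2 hnd).symm) hp.one_lt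
      exact ⟨c, hc⟩
    have hinv : ∀ u ∈ psharp (P : Subgroup G), (u ^ t) ^ c = u := fun u hu => by
      rw [← pow_mul, ← pow_mod_orderOf, orderOf_of_mem_psharp hexp hu, hc, pow_one]
    refine Finset.sum_bij (fun u _ => u ^ t) hmaps
      (fun a ha b hb h => by rw [← hinv a ha, ← hinv b hb, h]) (fun b hb => ?_) fun u _ => rfl
    refine ⟨b ^ c, mem_psharp.2 ⟨pow_mem (mem_psharp.1 hb).1 c, fun h => (mem_psharp.1 hb).2 ?_⟩, ?_⟩
    · rw [← hinv b hb, ← pow_mul, mul_comm, pow_mul, h, one_pow]
    · show (b ^ c) ^ t = b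
      rw [← pow_mul, mul_comm, pow_mul, hinv b hb]
  have hmain : (((p - 2) * (sing G p).card : ℕ) : ℝ) * (psharp (P : Subgroup G)).card ≤
      ((p - 1 : ℕ) : ℝ) * ∑ u ∈ psharp (P : Subgroup G), f u := by
    calc (((p - 2) * (sing G p).card : ℕ) : ℝ) * (psharp (P : Subgroup G)).card
        = ∑ _u ∈ psharp (P : Subgroup G), (((p - 2) * (sing G p).card : ℕ) : ℝ) := by
          rw [Finset.sum_const, nsmul_eq_mul, mul_comm]
      _ ≤ ∑ u ∈ psharp (P : Subgroup G), ∑ t ∈ Finset.Ico 1 p, f (u ^ t) := Finset.sum_le_sum hf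
      _ = _ := by
          rw [Finset.sum_comm, Finset.sum_congr rfl hperm, Finset.sum_const, Nat.card_Ico,
            nsmul_eq_mul]
  rw [hsum]
  push_cast at hmain
  have := mul_le_mul_of_nonneg_left hmain (Nat.cast_nonneg (α := ℝ) (Nat.card G))
  linarith

include hab in
theorem orbit_card {x : G} (hx : x ∈ (P : Subgroup G)) (hx1 : x ≠ 1)
    [DecidablePred (IsConj x)] :
    ((psharp (P : Subgroup G)).filter (IsConj x)).card *
        (centN (P : Subgroup G)).relIndex (stabN (P : Subgroup G) x) =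
      (centN (P : Subgroup G)).index := by
  classical
  rw [mul_comm, ← Subgroup.relIndex_mul_index (centN_le_stabN hx)]
  congr 1
  haveI : IsMulCommutative ↥(P : Sylow p G) :=
    ⟨⟨fun a b => Subtype.ext (hab _ P.2 a a.2 b b.2)⟩⟩
  set S := stabN (P : Subgroup G) x
  haveI : Fintype (↥(Subgroup.normalizer ((P : Subgroup G) : Set G)) ⧸ S) := Fintype.ofFinite _
  rw [Subgroup.index, Nat.card_eq_fintype_card, ← Finset.card_univ]
  symm
  refine Finset.card_bij
    (fun q _ => (q.out : G) * x * (q.out : G)⁻¹) (fun q _ => ?_) (fun a _ b _ h => ?_) fun u hu => ?_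
  · refine mem_filter.2 ⟨mem_psharp.2 ⟨(Subgroup.mem_normalizer_iff.1 q.out.2 x).1 hx, ?_⟩,
      isConj_iff.2 ⟨_, rfl⟩⟩
    simpa using hx1
  · rw [← QuotientGroup.out_eq' a, ← QuotientGroup.out_eq' b, QuotientGroup.eq]
    refine Subgroup.mem_centralizer_singleton_iff.2 ?_
    have h2 : (a.out : G)⁻¹ * ((a.out : G) * x * (a.out : G)⁻¹) * b.out =
        (a.out : G)⁻¹ * ((b.out : G) * x * (b.out : G)⁻¹) * b.out := by rw [h]
    simp only [Subgroup.coe_subtype, Subgroup.coe_mul, InvMemClass.coe_inv, mul_assoc,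
      inv_mul_cancel_left, inv_mul_cancel, mul_one] at h2 ⊢
    exact h2.symm
  · obtain ⟨hu, huc⟩ := mem_filter.1 hu
    obtain ⟨c, hc⟩ := isConj_iff.1 huc
    obtain ⟨m, hm, hm'⟩ := P.conj_eq_normalizer_conj_of_mem x c⁻¹ hx
      (by rw [inv_inv, hc]; exact (mem_psharp.1 hu).1)
    rw [inv_inv, hc] at hm'
    refine ⟨QuotientGroup.mk ⟨m⁻¹, inv_mem hm⟩, mem_univ _, ?_⟩
    obtain ⟨⟨s, hs⟩, hs'⟩ := QuotientGroup.mk_out_eq_mul S
      (⟨m⁻¹, inv_mem hm⟩ : ↥(Subgroup.normalizer ((P : Subgroup G) : Set G)))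
    rw [hs', hm', Subgroup.coe_mul]
    have hsx : (s : G) * x = x * s := Subgroup.mem_centralizer_singleton_iff.1 hs
    calc m⁻¹ * (s : G) * x * (m⁻¹ * (s : G))⁻¹ = m⁻¹ * ((s : G) * x) * (s : G)⁻¹ * m := by group
      _ = m⁻¹ * (x * s) * (s : G)⁻¹ * m := by rw [hsx]
      _ = m⁻¹ * x * m := by group

include hcard hexp hab hsolC hM in
theorem sum_sq_sumP :
    ∑ χ ∈ blockSet G M, Complex.normSq (sumP P χ) =
      ((psharp (P : Subgroup G)).card * (p ^ e * (centN (P : Subgroup G)).index) : ℕ) := by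
  classical
  apply Complex.ofReal_injective
  push_cast
  simp only [← Complex.mul_conj, sumP, map_sum, Finset.sum_mul_sum]
  rw [Finset.sum_comm, Finset.sum_congr rfl fun u _ => Finset.sum_comm]
  rw [← nsmul_eq_mul, ← Finset.sum_const]
  refine Finset.sum_congr rfl fun u hu => ?_
  obtain ⟨huP, hu1⟩ := mem_psharp.1 hu
  have hx : orderOf u = p ^ 1 := by rw [pow_one]; exact orderOf_of_mem_psharp hexp hu
  have key : ∀ v ∈ psharp (P : Subgroup G),
      ∑ χ ∈ blockSet G M, (χ : G → ℂ) u * conj ((χ : G → ℂ) v) =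
        if IsConj u v then ((core p u).index : ℂ) else 0 := by
    intro v hv
    split_ifs with h
    · rw [← sum_sq_B hM hx (hsolC u hu1)]
      exact Finset.sum_congr rfl fun χ _ => by
        rw [IsClassFunction.apply_eq_of_isConj (isClassFunction_irr χ) h]
    · exact sum_mul_B_of_not_isConj hM hx
        (l := 1) (by rw [pow_one]; exact orderOf_of_mem_psharp hexp hv) (hsolC u hu1) h
  rw [Finset.sum_congr rfl key, ← Finset.sum_filter, Finset.sum_const, nsmul_eq_mul,
    (local_structure P hcard hab huP (hsolC u hu1)).1, ← orbit_card P hab huP hu1]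
  push_cast
  ring

include hcard hexp hab hsolC in
theorem sing_bound :
    (sing G p).card * (centN (P : Subgroup G)).index * (p ^ e * p) +
        Nat.card G * (p ^ e * (psharp (P : Subgroup G)).card) ≤
      Nat.card G * (p * (psharp (P : Subgroup G)).card) + Nat.card G * (p ^ e *
        ∑ a ∈ psharp (P : Subgroup G),
          (centN (P : Subgroup G)).relIndex (stabN (P : Subgroup G) a)) := by
  classical
  have hp : p.Prime := Fact.out
  set m : G → ℕ := fun a => (centN (P : Subgroup G)).relIndex (stabN (P : Subgroup G) a) with hm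
  let Sec : G → Finset G := fun a => univ.filter fun z => ∃ g v : G,
    v ∈ Subgroup.centralizer ({a} : Set G) ∧ ¬ p ∣ orderOf v ∧ g * (a * v) * g⁻¹ = z
  -- every singular element lies in the section of an element of `P`
  have hcover : ∀ z ∈ sing G p, (centN (P : Subgroup G)).index ≤
      ∑ a ∈ psharp (P : Subgroup G), if z ∈ Sec a then m a else 0 := by
    intro z hz
    obtain ⟨x, y, hxy, hcomm, -, -, hx1, hy, ⟨k, hk⟩, -, -⟩ := Block.exists_pPart hp z
    have hxp : IsPGroup p (Subgroup.zpowers x) :=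
      IsPGroup.of_card (n := k) (by rw [Nat.card_zpowers, hk])
    obtain ⟨S, hS⟩ := hxp.exists_le_sylow
    obtain ⟨g, hg⟩ := MulAction.exists_smul_eq G S P
    have hxP : g * x * g⁻¹ ∈ (P : Subgroup G) := by
      rw [← hg]
      exact ⟨x, hS (Subgroup.mem_zpowers x), rfl⟩
    set a := g * x * g⁻¹ with ha
    have ha1 : a ≠ 1 := by simpa [ha] using hx1 (mem_sing.1 hz)
    rw [← orbit_card P hab hxP ha1, mul_comm, ← Finset.sum_filter]
    calc m a * ((psharp (P : Subgroup G)).filter (IsConj a)).card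
        = ∑ _b ∈ (psharp (P : Subgroup G)).filter (IsConj a), m a := by
          rw [Finset.sum_const, smul_eq_mul, mul_comm]
      _ = ∑ b ∈ (psharp (P : Subgroup G)).filter (IsConj a), m b := by
          refine Finset.sum_congr rfl fun b hb => ?_
          obtain ⟨hb, hbc⟩ := mem_filter.1 hb
          have h1 := orbit_card P hab hxP ha1
          have h2 := orbit_card P hab (mem_psharp.1 hb).1 (mem_psharp.1 hb).2
          have he : (psharp (P : Subgroup G)).filter (IsConj b) =
              (psharp (P : Subgroup G)).filter (IsConj a) := Finset.filter_congr fun c _ =>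
            ⟨fun h => hbc.trans h, fun h => hbc.symm.trans h⟩
          rw [he] at h2
          exact Nat.eq_of_mul_eq_mul_left (Finset.card_pos.2 ⟨a, mem_filter.2
            ⟨mem_psharp.2 ⟨hxP, ha1⟩, IsConj.refl a⟩⟩) (h1.trans h2.symm)
      _ ≤ _ := by
          refine Finset.sum_le_sum_of_subset fun b hb => ?_
          obtain ⟨hb, hbc⟩ := mem_filter.1 hb
          refine mem_filter.2 ⟨hb, mem_filter.2 ⟨mem_univ _, ?_⟩⟩
          obtain ⟨c, hc⟩ := isConj_iff.1 hbc
          refine ⟨(c * g)⁻¹, (c * g) * y * (c * g)⁻¹, ?_, ?_, ?_⟩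
          · rw [Subgroup.mem_centralizer_singleton_iff, ← hc, ha]
            have := hcomm.eq
            calc c * g * y * (c * g)⁻¹ * (c * (g * x * g⁻¹) * c⁻¹)
                = c * g * (y * x) * (c * g)⁻¹ := by group
              _ = c * g * (x * y) * (c * g)⁻¹ := by rw [this]
              _ = _ := by group
          · rwa [show orderOf (c * g * y * (c * g)⁻¹) = orderOf y from
              (MulAut.conj (c * g)).orderOf_eq y]
          · rw [← hxy, ← hc, ha]; group
  -- the size of a section
  have hsize : ∀ a ∈ psharp (P : Subgroup G),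
      (Sec a).card * m a * (p ^ e * p) + Nat.card G * p ^ e ≤
        Nat.card G * p + Nat.card G * (p ^ e * m a) := by
    intro a ha
    obtain ⟨haP, ha1⟩ := mem_psharp.1 ha
    set C := Subgroup.centralizer ({a} : Set G) with hC
    haveI : Fintype C := Fintype.ofFinite _
    set Rg := univ.filter fun v : C => ¬ p ∣ orderOf v
    have hfib : ∀ z ∈ Sec a, Nat.card C ≤
        (((univ : Finset G) ×ˢ Rg).filter fun gv => gv.1 * (a * (gv.2 : G)) * gv.1⁻¹ = z).card := by
      intro z hz
      obtain ⟨g, v, hvC, hv, rfl⟩ := (mem_filter.1 hz).2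
      rw [Nat.card_eq_fintype_card, ← Finset.card_univ]
      refine Finset.card_le_card_of_injOn
        (fun c : C => (g * c, c⁻¹ * (⟨v, hvC⟩ : C) * c)) (fun c _ => ?_) fun c _ d _ h =>
          Subtype.ext (mul_left_cancel (congrArg Prod.fst h))
      refine mem_filter.2 ⟨mem_product.2 ⟨mem_univ _, mem_filter.2 ⟨mem_univ _, ?_⟩⟩, ?_⟩
      · rwa [show orderOf (c⁻¹ * (⟨v, hvC⟩ : C) * c) = orderOf (⟨v, hvC⟩ : C) by
          simpa using (MulAut.conj c⁻¹).orderOf_eq (⟨v, hvC⟩ : C), ← Subgroup.orderOf_coe]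
      · have hca : (c : G) * a = a * c := Subgroup.mem_centralizer_singleton_iff.1 c.2
        push_cast
        calc g * c * (a * ((c : G)⁻¹ * v * c)) * (g * c)⁻¹
            = g * ((c : G) * a) * (c : G)⁻¹ * v * g⁻¹ := by group
          _ = g * (a * c) * (c : G)⁻¹ * v * g⁻¹ := by rw [hca]
          _ = g * (a * v) * g⁻¹ := by group
    have hle : (Sec a).card * Nat.card C ≤ Nat.card G * Rg.card := by
      calc (Sec a).card * Nat.card C
          ≤ ∑ z ∈ Sec a, (((univ : Finset G) ×ˢ Rg).filter
              fun gv => gv.1 * (a * (gv.2 : G)) * gv.1⁻¹ = z).card := by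
            rw [← smul_eq_mul]; exact Finset.card_nsmul_le_sum _ _ _ hfib
        _ = ((univ : Finset G) ×ˢ Rg).card := by
            refine (Finset.card_eq_sum_card_fiberwise fun gv hgv => ?_).symm
            exact mem_filter.2 ⟨mem_univ _, gv.1, gv.2, gv.2.2, by
              rw [Subgroup.orderOf_coe]; exact (mem_filter.1 (mem_product.1 hgv).2).2, rfl⟩
        _ = _ := by rw [Finset.card_product, card_univ, Nat.card_eq_fintype_card]
    have hidx := (local_structure P hcard hab haP (hsolC a ha1)).1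
    have hCc : Nat.card C = Nat.card (core p a) * (p ^ e * m a) := by
      rw [hm, ← hidx, mul_comm]; exact ((core p a).index_mul_card).symm
    have hreg := card_regular_le P hcard hab haP (hsolC a ha1) (orderOf_of_mem_psharp hexp ha)
    rw [Nat.card_eq_fintype_card (α := {v : C // ¬ p ∣ orderOf v}), Fintype.card_subtype] at hreg
    refine Nat.le_of_mul_le_mul_left ?_ (Nat.card_pos (α := core p a))
    calc Nat.card (core p a) * ((Sec a).card * m a * (p ^ e * p) + Nat.card G * p ^ e)
        = (Sec a).card * Nat.card C * p + Nat.card G * (Nat.card (core p a) * p ^ e) := by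
          rw [hCc]; ring
      _ ≤ Nat.card G * Rg.card * p + Nat.card G * (Nat.card (core p a) * p ^ e) :=
          Nat.add_le_add_right (Nat.mul_le_mul_right _ hle) _
      _ = Nat.card G * (Rg.card * p + Nat.card (core p a) * p ^ e) := by ring
      _ ≤ Nat.card G * (Nat.card (core p a) * p + Nat.card (core p a) * p ^ e * m a) :=
          Nat.mul_le_mul_left _ hreg
      _ = _ := by ring
  have h1 : (sing G p).card * (centN (P : Subgroup G)).index ≤
      ∑ a ∈ psharp (P : Subgroup G), (Sec a).card * m a := by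
    calc (sing G p).card * (centN (P : Subgroup G)).index
        ≤ ∑ z ∈ sing G p, ∑ a ∈ psharp (P : Subgroup G), if z ∈ Sec a then m a else 0 := by
          rw [← smul_eq_mul]; exact Finset.card_nsmul_le_sum _ _ _ hcover
      _ ≤ _ := by
          rw [Finset.sum_comm]
          refine Finset.sum_le_sum fun a _ => ?_
          rw [← Finset.sum_filter, Finset.sum_const, smul_eq_mul]
          exact Nat.mul_le_mul_right _ (Finset.card_le_card fun z hz => (mem_filter.1 hz).2)
  calc (sing G p).card * (centN (P : Subgroup G)).index * (p ^ e * p) +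
        Nat.card G * (p ^ e * (psharp (P : Subgroup G)).card)
      ≤ (∑ a ∈ psharp (P : Subgroup G), (Sec a).card * m a) * (p ^ e * p) +
        Nat.card G * (p ^ e * (psharp (P : Subgroup G)).card) :=
        Nat.add_le_add_right (Nat.mul_le_mul_right _ h1) _
    _ = ∑ a ∈ psharp (P : Subgroup G),
          ((Sec a).card * m a * (p ^ e * p) + Nat.card G * p ^ e) := by
        rw [Finset.sum_add_distrib, Finset.sum_mul, Finset.sum_const, smul_eq_mul]; ring
    _ ≤ ∑ a ∈ psharp (P : Subgroup G), (Nat.card G * p + Nat.card G * (p ^ e * m a)) :=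
        Finset.sum_le_sum hsize
    _ = _ := by
        rw [Finset.sum_add_distrib, Finset.sum_const, smul_eq_mul, Finset.mul_sum, Finset.mul_sum]
        ring

end Sylow

/-- Some nonprincipal character has a large average over `P`. -/
theorem exists_big {ι : Type*} [DecidableEq ι] (s : Finset ι) {e : ι} (he : e ∈ s) {w q n : ι → ℝ}
    {A Z : ℝ} (hq : ∀ i ∈ s, 0 ≤ q i) (hn : ∀ i ∈ s, 0 < n i) (hA : 0 < A)
    (hle : A + w e * q e / n e ≤ ∑ i ∈ s, w i * q i / n i) (hZ : ∑ i ∈ s.erase e, q i ≤ Z) :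
    ∃ i ∈ s.erase e, A * n i ≤ w i * Z := by
  by_contra hne
  push Not at hne
  rw [← Finset.add_sum_erase _ _ he] at hle
  have hpos : ∃ i ∈ s.erase e, 0 < q i := by
    by_contra h
    push Not at h
    have : ∑ i ∈ s.erase e, w i * q i / n i = 0 := Finset.sum_eq_zero fun i hi => by
      rw [le_antisymm (h i hi) (hq i (Finset.mem_of_mem_erase hi))]; simp
    linarith
  obtain ⟨i₀, hi₀, hq₀⟩ := hpos
  have hZ0 : 0 ≤ Z := (Finset.sum_nonneg fun i hi => hq i (Finset.mem_of_mem_erase hi)).trans hZ
  have key : ∀ i ∈ s.erase e, w i * q i / n i * Z ≤ A * q i := fun i hi => by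
    rw [div_mul_eq_mul_div, div_le_iff₀ (hn i (Finset.mem_of_mem_erase hi))]
    nlinarith [hne i hi, hq i (Finset.mem_of_mem_erase hi)]
  have hlt : (∑ i ∈ s.erase e, w i * q i / n i) * Z < A * ∑ i ∈ s.erase e, q i := by
    rw [Finset.sum_mul, Finset.mul_sum]
    refine Finset.sum_lt_sum key ⟨i₀, hi₀, ?_⟩
    rw [div_mul_eq_mul_div, div_lt_iff₀ (hn i₀ (Finset.mem_of_mem_erase hi₀))]
    nlinarith [hne i₀ hi₀]
  nlinarith [mul_le_mul_of_nonneg_right (show A ≤ ∑ i ∈ s.erase e, w i * q i / n i by linarith) hZ0,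
    mul_le_mul_of_nonneg_left hZ hA.le]

end CfsgLib.PairRankTwo
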