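import Cfsg.Agent.PairRankTwo.Mat

/-!
# The numerical inequality for solvable irreducible linear groups of degree two
-/

set_option autoImplicit false
set_option linter.style.haveILetI false

namespace CfsgLib.PairRankTwo

open Matrix Finset

variable {p : ℕ} [Fact p.Prime]

theorem ker_det_finite_order {H : Type*} [Group H] [Finite H] (ρ : H →* M2 p)
    (hinj : Function.Injective ρ) (hcop : ¬ p ∣ Nat.card H) {g : H} (hd : (ρ g).det = 1)
    (hf : Fixes (ρ g)) : g = 1 := by
  apply hinj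
  rw [map_one]
  refine eq_one_of_trace_two (n := orderOf g) (fun h => hcop (h.trans (orderOf_dvd_natCard g)))
    (by rw [← map_pow, pow_orderOf_eq_one, map_one]) ?_ hd
  rw [show (ρ g).trace = 1 + (ρ g).det from hf, hd]; norm_num

theorem exists_smul_of_fixed {g : M2 p} (hg : g ≠ 1) {v w : Fin 2 → ZMod p} (hv : v ≠ 0)
    (hgv : g *ᵥ v = v) (hgw : g *ᵥ w = w) : ∃ c : ZMod p, w = c • v := by
  by_contra hc
  push Not at hc
  have hd : (!![v 0, w 0; v 1, w 1] : M2 p).det ≠ 0 := by
    rw [Matrix.det_fin_two_of]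
    intro h
    by_cases h0 : v 0 = 0
    · have h1 : v 1 ≠ 0 := fun h1 => hv (funext fun i => by fin_cases i <;> assumption)
      have hw0 : w 0 = 0 := by
        rw [h0, zero_mul, zero_sub, neg_eq_zero] at h
        exact (mul_eq_zero.1 h).resolve_right h1
      refine hc (w 1 / v 1) (funext fun i => ?_)
      fin_cases i
      · simp [h0, hw0]
      · simp [h1]
    · refine hc (w 0 / v 0) (funext fun i => ?_)
      fin_cases i
      · simp [h0]
      · simp only [Pi.smul_apply, smul_eq_mul]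
        rw [div_mul_eq_mul_div, eq_div_iff h0]
        show w 1 * v 0 = w 0 * v 1
        linear_combination h
  apply hg
  have he : g * !![v 0, w 0; v 1, w 1] = !![v 0, w 0; v 1, w 1] := by
    have a := congrFun hgv; have b := congrFun hgw
    simp only [Matrix.mulVec, dotProduct, Fin.sum_univ_two] at a b
    ext i j
    fin_cases i <;> fin_cases j <;>
      simp [Matrix.mul_apply, Fin.sum_univ_two] <;> first | exact a 0 | exact a 1 | exact b 0 | exact b 1
  have hu := (Matrix.isUnit_iff_isUnit_det _).2 (isUnit_iff_ne_zero.2 hd)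
  exact hu.mul_eq_right.1 he

section

variable {H : Type*} [Group H] [Finite H] (ρ : H →* M2 p)

/-- The nontrivial elements with an eigenvalue one. -/
noncomputable def fixing : Finset H :=
  letI := Fintype.ofFinite H
  letI : DecidablePred fun g : H => g ≠ 1 ∧ Fixes (ρ g) := Classical.decPred _
  univ.filter fun g => g ≠ 1 ∧ Fixes (ρ g)

theorem mem_fixing {g : H} : g ∈ fixing ρ ↔ g ≠ 1 ∧ Fixes (ρ g) := by
  simp [fixing]

/-- The determinant as a homomorphism into the units. -/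
noncomputable def detHom : H →* (ZMod p)ˣ := (Matrix.detMonoidHom.comp ρ).toHomUnits

theorem coe_detHom (g : H) : ((detHom ρ g : (ZMod p)ˣ) : ZMod p) = (ρ g).det := rfl

theorem mem_ker_detHom {g : H} : g ∈ (detHom ρ).ker ↔ (ρ g).det = 1 := by
  rw [MonoidHom.mem_ker, Units.ext_iff, coe_detHom, Units.val_one]

variable (hinj : Function.Injective ρ) (hcop : ¬ p ∣ Nat.card H)

include hinj hcop in
theorem det_ne_one_of_mem {g : H} (hg : g ∈ fixing ρ) : (ρ g).det ≠ 1 := fun h =>
  ((mem_fixing ρ).1 hg).1 (ker_det_finite_order ρ hinj hcop h ((mem_fixing ρ).1 hg).2)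

include hinj hcop in
theorem two_mul_fixing_le
    (h : ∀ g ∈ fixing ρ, (ρ g).det = -1 ∨ ∃ z, ρ z = -1) :
    2 * (fixing ρ).card ≤ Nat.card H := by
  classical
  letI := Fintype.ofFinite H
  rcases (fixing ρ).eq_empty_or_nonempty with he | ⟨g₀, hg₀⟩
  · rw [he]; simp
  obtain ⟨a, ha⟩ : ∃ a : H, ∀ g ∈ fixing ρ, (ρ g).det = -1 → (ρ a).det = -1 := by
    by_cases hm : ∃ a ∈ fixing ρ, (ρ a).det = -1
    · exact ⟨hm.choose, fun _ _ _ => hm.choose_spec.2⟩
    · exact ⟨g₀, fun g hg hd => absurd ⟨g, hg, hd⟩ hm⟩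
  obtain ⟨z, hz⟩ : ∃ z : H, ∀ g ∈ fixing ρ, (ρ g).det ≠ -1 → ρ z = -1 := by
    by_cases hz' : ∃ z, ρ z = -1
    · exact ⟨hz'.choose, fun _ _ _ => hz'.choose_spec⟩
    · exact ⟨1, fun g hg hd => absurd ((h g hg).resolve_left hd) hz'⟩
  set f : H → H := fun g => if (ρ g).det = -1 then g * a⁻¹ else z * g with hf
  have hdet : ∀ g ∈ fixing ρ, (ρ (f g)).det = if (ρ g).det = -1 then 1 else (ρ g).det := by
    intro g hg
    by_cases hg1 : (ρ g).det = -1
    · simp only [hf, if_pos hg1]
      have e : detHom ρ g = detHom ρ a := Units.ext (by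
        rw [coe_detHom, coe_detHom, hg1, ha g hg hg1])
      rw [← coe_detHom, map_mul, map_inv, e, mul_inv_cancel, Units.val_one]
    · simp only [hf, if_neg hg1, map_mul, hz g hg hg1, neg_one_mul, Matrix.det_neg,
        Fintype.card_fin, neg_one_sq, one_mul]
  have key : ∀ g ∈ fixing ρ, f g ∉ fixing ρ := by
    intro g hg hfg
    by_cases hg1 : (ρ g).det = -1
    · refine det_ne_one_of_mem ρ hinj hcop hfg ?_
      rw [hdet g hg, if_pos hg1]
    · have h2 := ((mem_fixing ρ).1 hfg).2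
      simp only [hf, if_neg hg1] at h2
      rw [Fixes, map_mul, hz g hg hg1, neg_one_mul, Matrix.trace_neg, Matrix.det_neg,
        Fintype.card_fin, neg_one_sq, one_mul] at h2
      have h3 : (ρ g).trace = 1 + (ρ g).det := ((mem_fixing ρ).1 hg).2
      apply hg1
      have hp : p ≠ 2 := by
        rintro rfl
        have key2 : ∀ x : ZMod 2, x ≠ 0 → x = 1 := fun x hx => by
          fin_cases x
          · exact absurd rfl hx
          · rfl
        exact det_ne_one_of_mem ρ hinj hcop hg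
          (key2 _ (coe_detHom ρ g ▸ Units.ne_zero _))
      have h4 : (2 : ZMod p) * ((ρ g).det + 1) = 0 := by linear_combination -h2 - h3
      linear_combination (mul_eq_zero.1 h4).resolve_left (two_ne_zero' hp)
  have hinjOn : Set.InjOn f (fixing ρ : Set H) := by
    intro x hx y hy hxy
    have e := congrArg (fun t => (ρ t).det) hxy
    simp only [hdet x hx, hdet y hy] at e
    simp only [hf] at hxy
    by_cases hx1 : (ρ x).det = -1 <;> by_cases hy1 : (ρ y).det = -1
    · rw [if_pos hx1, if_pos hy1] at hxy; exact mul_right_cancel hxy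
    · rw [if_pos hx1, if_neg hy1] at e
      exact absurd e.symm (det_ne_one_of_mem ρ hinj hcop hy)
    · rw [if_neg hx1, if_pos hy1] at e
      exact absurd e (det_ne_one_of_mem ρ hinj hcop hx)
    · rw [if_neg hx1, if_neg hy1] at hxy; exact mul_left_cancel hxy
  have hd : Disjoint (fixing ρ) ((fixing ρ).image f) := by
    rw [Finset.disjoint_left]
    rintro x hx hxi
    obtain ⟨g, hg, rfl⟩ := Finset.mem_image.1 hxi
    exact key g hg hx
  have hle := Finset.card_le_univ (fixing ρ ∪ (fixing ρ).image f)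
  rw [Finset.card_union_of_disjoint hd, Finset.card_image_of_injOn hinjOn,
    ← Nat.card_eq_fintype_card] at hle
  omega

variable (hirr : ∀ v : Fin 2 → ZMod p, v ≠ 0 → ∃ g : H, ∀ c : ZMod p, ρ g *ᵥ v ≠ c • v)

include hirr hinj in
theorem not_comm_of_fixing {g : H} (hg : g ∈ fixing ρ) : ∃ x y : H, x * y ≠ y * x := by
  obtain ⟨hg1, hf⟩ := (mem_fixing ρ).1 hg
  obtain ⟨v, hv, hgv⟩ := (fixes_iff_exists _).1 hf
  obtain ⟨x, hx⟩ := hirr v hv
  refine ⟨g, x, fun he => ?_⟩
  have h1 : ρ g ≠ 1 := fun e => hg1 (hinj (e.trans (map_one ρ).symm))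
  obtain ⟨c, hc⟩ := exists_smul_of_fixed h1 hv hgv (w := ρ x *ᵥ v)
    (by rw [Matrix.mulVec_mulVec, ← map_mul, he, map_mul, ← Matrix.mulVec_mulVec, hgv])
  exact hx c hc

omit [Finite H] in
theorem six_le_card [Finite H] (hn : ∃ x y : H, x * y ≠ y * x) : 6 ≤ Nat.card H := by
  obtain ⟨x, y, hxy⟩ := hn
  by_contra hlt
  have h0 : 0 < Nat.card H := Nat.card_pos
  have hpr : ∀ q : ℕ, q.Prime → Nat.card H = q → False := fun q hq he => by
    haveI := Fact.mk hq
    haveI := isCyclic_of_prime_card he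
    exact hxy ((IsCyclic.commGroup (α := H)).mul_comm x y)
  interval_cases hc : Nat.card H
  · haveI := (Nat.card_eq_one_iff_unique.1 hc).1
    exact hxy (Subsingleton.elim _ _)
  · exact hpr 2 Nat.prime_two rfl
  · exact hpr 3 Nat.prime_three rfl
  · haveI := Fact.mk Nat.prime_two
    exact hxy (IsPGroup.commutative_of_card_eq_prime_sq (p := 2) (by rw [hc]; norm_num) x y)
  · exact hpr 5 (by norm_num) rfl

include hinj in
theorem eight_le_card (hp : p ≠ 2) (hn : ∃ x y : H, x * y ≠ y * x) {z : H} (hz : ρ z = -1) :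
    8 ≤ Nat.card H := by
  obtain ⟨x, y, hxy⟩ := hn
  have hzc : z ∈ Subgroup.center H := Subgroup.mem_center_iff.2 fun g => hinj (by
    rw [map_mul, map_mul, hz, mul_neg_one, neg_one_mul])
  have h2 : 2 ≤ Nat.card (Subgroup.center H) := by
    by_contra hlt
    have h1 := Nat.card_pos (α := Subgroup.center H)
    haveI := (Nat.card_eq_one_iff_unique.1 (by omega : Nat.card (Subgroup.center H) = 1)).1
    have hz1 : z = 1 := congrArg Subtype.val (Subsingleton.elim (⟨z, hzc⟩ : Subgroup.center H) 1)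
    rw [hz1, map_one] at hz
    have := congrFun (congrFun hz 0) 0
    simp at this
    exact two_ne_zero' hp (by linear_combination this)
  have h4 : 4 ≤ (Subgroup.center H).index := by
    by_contra hlt
    have h0 : (Subgroup.center H).index ≠ 0 := Subgroup.index_ne_zero_of_finite
    haveI : IsCyclic (H ⧸ Subgroup.center H) := by
      rw [Subgroup.index] at hlt h0
      interval_cases hc : Nat.card (H ⧸ Subgroup.center H)
      · exact (h0 rfl).elim
      · haveI := (Nat.card_eq_one_iff_unique.1 hc).1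
        exact inferInstance
      · haveI := Fact.mk Nat.prime_two; exact isCyclic_of_prime_card hc
      · haveI := Fact.mk Nat.prime_three; exact isCyclic_of_prime_card hc
    exact hxy ((commutative_of_cyclic_center_quotient (QuotientGroup.mk' (Subgroup.center H))
      (by rw [QuotientGroup.ker_mk'])) x y)
  calc 8 ≤ Nat.card (Subgroup.center H) * (Subgroup.center H).index := by
        calc 8 = 2 * 4 := rfl
          _ ≤ _ := Nat.mul_le_mul h2 h4
    _ = _ := Subgroup.card_mul_index _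

variable [Group.IsSolvable H]

include hinj hcop in
theorem fixing_le_of_no_minus (hp : p ≠ 2) (hn : ∃ x y : H, x * y ≠ y * x)
    (hz : ¬ ∃ z, ρ z = -1) :
    3 * (fixing ρ).card + 6 ≤ Nat.card H + 3 * Nat.card (detHom ρ).ker := by
  classical
  letI := Fintype.ofFinite H
  obtain ⟨x₀, y₀, hxy⟩ := hn
  obtain ⟨n, hn⟩ := (Group.isSolvable_def H).1 ‹_›
  obtain ⟨m, hm, hm'⟩ : ∃ m, derivedSeries H (m + 1) ≠ ⊥ ∧ derivedSeries H (m + 2) = ⊥ := by
    have h0 : derivedSeries H 1 ≠ ⊥ := fun e => by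
      have := Subgroup.commutator_mem_commutator (Subgroup.mem_top x₀) (Subgroup.mem_top y₀)
      rw [← derivedSeries_zero H, ← derivedSeries_succ, e, Subgroup.mem_bot,
        commutatorElement_eq_one_iff_mul_comm] at this
      exact hxy this
    by_contra h
    push Not at h
    have : ∀ k, derivedSeries H (k + 1) ≠ ⊥ := fun k => by
      induction k with
      | zero => exact h0
      | succ k ih => exact h k ih
    exact this n (by rw [derivedSeries_succ, hn]; simp)
  set A := derivedSeries H (m + 1)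
  obtain ⟨s, hsA, hs1⟩ := A.bot_or_exists_ne_one.resolve_left hm
  have hAker : A ≤ (detHom ρ).ker := by
    refine le_trans (derivedSeries_antitone H (by omega : 1 ≤ m + 1)) ?_
    rw [derivedSeries_one]
    exact Abelianization.commutator_subset_ker _
  have hsd : (ρ s).det = 1 := (mem_ker_detHom ρ).1 (hAker hsA)
  have hnf : ∀ g : H, (ρ g).det = 1 → g ≠ 1 → (ρ g).trace ≠ 2 := fun g hd hg ht => hg
    (ker_det_finite_order ρ hinj hcop hd (by rw [Fixes, ht, hd]; norm_num))
  have hs4 : (ρ s).trace * (ρ s).trace ≠ 4 := by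
    intro h
    have : ((ρ s).trace - 2) * ((ρ s).trace + 2) = 0 := by linear_combination h
    rcases mul_eq_zero.1 this with h' | h'
    · exact hnf s hsd hs1 (sub_eq_zero.1 h')
    · refine hz ⟨s, ?_⟩
      have hneg : -ρ s = 1 := eq_one_of_trace_two (n := 2 * orderOf s)
        (fun hd => by
          rcases (Fact.out : p.Prime).dvd_mul.1 hd with h2 | h2
          · exact hp ((Nat.prime_dvd_prime_iff_eq Fact.out Nat.prime_two).1 h2)
          · exact hcop (h2.trans (orderOf_dvd_natCard s)))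
        (by rw [pow_mul, neg_sq, ← pow_mul, ← map_pow, mul_comm, pow_mul, pow_orderOf_eq_one,
          one_pow, map_one])
        (by rw [Matrix.trace_neg]; linear_combination -h')
        (by rw [Matrix.det_neg, hsd]; simp)
      exact neg_eq_iff_eq_neg.1 hneg
  have hsc : ∀ c : ZMod p, ρ s ≠ c • (1 : M2 p) := by
    intro c hc
    apply hs4
    rw [hc] at hsd ⊢
    rw [Matrix.det_smul, Fintype.card_fin, Matrix.det_one, mul_one] at hsd
    rw [Matrix.trace_smul, Matrix.trace_one, Fintype.card_fin, smul_eq_mul]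
    push_cast
    linear_combination 4 * hsd
  have hinv : ρ s⁻¹ = (ρ s).trace • (1 : M2 p) - ρ s := by
    have h1 : ρ s⁻¹ * ρ s = 1 := by rw [← map_mul, inv_mul_cancel, map_one]
    calc ρ s⁻¹ = ρ s⁻¹ * (ρ s * ((ρ s).trace • (1 : M2 p) - ρ s)) := by
          rw [mul_sub, mul_smul_comm, mul_one, cayley, hsd, one_smul, sub_sub_cancel, mul_one]
      _ = _ := by rw [← mul_assoc, h1, one_mul]
  have hs2 : s * s ≠ 1 := by
    intro h
    apply hs4
    have h1 : ρ s⁻¹ = ρ s := by rw [inv_eq_of_mul_eq_one_right h]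
    rw [hinv] at h1
    have h2 := congrArg Matrix.trace h1
    rw [Matrix.trace_sub, Matrix.trace_smul, Matrix.trace_one] at h2
    simp at h2
    have h3 : (ρ s).trace = 2 * (ρ s) 0 0 := by
      have e := congrFun (congrFun h1 0) 0
      simp at e
      linear_combination e
    have h4 := congrFun (congrFun h1 0) 1
    simp at h4
    have h5 : (ρ s) 0 1 = 0 :=
      (mul_eq_zero.1 (by linear_combination -h4 : (2 : ZMod p) * (ρ s) 0 1 = 0)).resolve_left
        (two_ne_zero' hp)
    rw [Matrix.det_fin_two, h5] at hsd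
    rw [Matrix.trace_fin_two] at h3
    rw [Matrix.trace_fin_two]
    have h6 : (ρ s) 1 1 = (ρ s) 0 0 := by linear_combination h3
    rw [h6] at hsd ⊢
    linear_combination 4 * hsd
  have hconj : ∀ x : H, x * s * x⁻¹ = s ∨ x * s * x⁻¹ = s⁻¹ := by
    intro x
    have hxA : x * s * x⁻¹ ∈ A := (derivedSeries_normal H (m + 1)).conj_mem s hsA x
    have hc : ρ (x * s * x⁻¹) * ρ s = ρ s * ρ (x * s * x⁻¹) := by
      have := Subgroup.commutator_mem_commutator hxA hsA
      rw [← derivedSeries_succ, hm', Subgroup.mem_bot, commutatorElement_eq_one_iff_mul_comm] at this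
      rw [← map_mul, ← map_mul, this]
    have hd : (ρ (x * s * x⁻¹)).det = 1 := (mem_ker_detHom ρ).1 (hAker hxA)
    have ht : (ρ (x * s * x⁻¹)).trace = (ρ s).trace := by
      rw [map_mul, Matrix.trace_mul_comm, ← map_mul, inv_mul_cancel_left]
    rcases eq_or_of_commute hp hsc hsd hs4 ht hd hc with h | h
    · exact Or.inl (hinj h)
    · exact Or.inr (hinj (h.trans hinv.symm))
  set C := Subgroup.centralizer ({s} : Set H) with hC
  have hCiff : ∀ x, x ∈ C ↔ x * s * x⁻¹ = s := fun x => by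
    rw [hC, Subgroup.mem_centralizer_singleton_iff, mul_inv_eq_iff_eq_mul]
  have hCcomm : ∀ a ∈ C, ∀ b ∈ C, ρ a * ρ b = ρ b * ρ a := by
    intro a ha b hb
    have hc : ∀ a ∈ C, ρ a * ρ s = ρ s * ρ a := fun a ha => by
      rw [← map_mul, ← map_mul, Subgroup.mem_centralizer_singleton_iff.1 ha]
    obtain ⟨a₁, a₂, ea⟩ := exists_of_commute hsc (hc a ha)
    rw [ea, add_mul, mul_add, smul_mul_assoc, smul_mul_assoc, mul_smul_comm, mul_smul_comm, one_mul,
      mul_one, hc b hb]
  obtain ⟨x₁, hx₁⟩ : ∃ x, x ∉ C := by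
    by_contra h
    push Not at h
    exact hxy (hinj (by rw [map_mul, map_mul, hCcomm _ (h _) _ (h _)]))
  have hCidx : C.index = 2 := by
    refine Subgroup.index_eq_two_iff.2 ⟨x₁, fun b => ?_⟩
    have h1 := (hconj x₁).resolve_left (mt (hCiff x₁).2 hx₁)
    rcases hconj b with hb | hb
    · refine Or.inr ⟨(hCiff b).2 hb, fun hm => hx₁ ?_⟩
      have := C.mul_mem (C.inv_mem ((hCiff b).2 hb)) hm
      rwa [inv_mul_cancel_left] at this
    · refine Or.inl ⟨(hCiff _).2 ?_, fun hm => hs2 ?_⟩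
      · calc b * x₁ * s * (b * x₁)⁻¹ = b * (x₁ * s * x₁⁻¹) * b⁻¹ := by group
          _ = (b * s * b⁻¹)⁻¹ := by rw [h1]; group
          _ = s := by rw [hb, inv_inv]
      · have h2 := (hCiff b).1 hm
        rw [hb] at h2
        calc s * s = s⁻¹⁻¹ * s := by rw [inv_inv]
          _ = 1 := by rw [h2, inv_mul_cancel]
  set R1 := (fixing ρ).filter (· ∈ C)
  set R2 := (fixing ρ).filter (· ∉ C)
  have hsplit : (fixing ρ).card = R1.card + R2.card :=
    (Finset.card_filter_add_card_filter_not _).symm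
  have hR2 : R2.card ≤ Nat.card (detHom ρ).ker := by
    rcases R2.eq_empty_or_nonempty with he | ⟨g₀, hg₀⟩
    · rw [he]; simp
    have hd : ∀ g ∈ R2, (ρ g).det = -1 := by
      intro g hg
      obtain ⟨hg, hgC⟩ := Finset.mem_filter.1 hg
      refine det_of_invert ((mem_fixing ρ).1 hg).2 hsd ?_ fun e => hgC ?_
      · rw [← hinv, ← map_mul, ← map_mul]
        have := (hconj g).resolve_left (mt (hCiff g).2 hgC)
        rw [mul_inv_eq_iff_eq_mul.1 this]
      · rw [← map_mul, ← map_mul] at e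
        exact Subgroup.mem_centralizer_singleton_iff.2 (hinj e)
    let e : R2 → (detHom ρ).ker := fun g => ⟨(g : H) * g₀⁻¹, by
      rw [MonoidHom.mem_ker, map_mul, map_inv, mul_inv_eq_one]
      exact Units.ext (by rw [coe_detHom, coe_detHom, hd g g.2, hd g₀ hg₀])⟩
    have := Nat.card_le_card_of_injective e fun a b h =>
      Subtype.ext (mul_right_cancel (congrArg Subtype.val h))
    rwa [Nat.card_eq_finsetCard] at this
  have hR1 : 3 * R1.card + 6 ≤ Nat.card H := by
    set W := Subgroup.zpowers s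
    have hWC : W ≤ C := Subgroup.zpowers_le.2 ((hCiff s).2 (mul_inv_cancel_right s s))
    have ho : 3 ≤ orderOf s := by
      by_contra hlt
      have h0 := orderOf_pos s
      have h1 : orderOf s ≠ 1 := mt orderOf_eq_one_iff.1 hs1
      have h2 : orderOf s = 2 := by omega
      exact hs2 (by rw [← sq, ← h2, pow_orderOf_eq_one])
    have hWd : ∀ g ∈ W, (ρ g).det = 1 := fun g hg =>
      (mem_ker_detHom ρ).1 ((Subgroup.zpowers_le.2 (hAker hsA)) hg)
    set φ : H × Fin 3 → H := fun gj => (QuotientGroup.mk gj.1 : H ⧸ W).out * s ^ (gj.2 : ℕ)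
    have hmk : ∀ gj : H × Fin 3, (QuotientGroup.mk (φ gj) : H ⧸ W) = QuotientGroup.mk gj.1 := by
      intro gj
      rw [show φ gj = _ from rfl, QuotientGroup.mk_mul_of_mem _
        (Subgroup.pow_mem _ (Subgroup.mem_zpowers s) _), QuotientGroup.out_eq']
    have hfib : ∀ y ∈ (R1 ×ˢ (univ : Finset (Fin 3))).image φ,
        ((R1 ×ˢ (univ : Finset (Fin 3))).filter fun gj => φ gj = y).card ≤ 2 := by
      intro y _
      by_contra hlt
      obtain ⟨a, b, c, ha, hb, hc, hab, hac, hbc⟩ :=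
        Finset.two_lt_card_iff.1 (not_le.1 hlt)
      simp only [Finset.mem_filter, Finset.mem_product, Finset.mem_univ, and_true] at ha hb hc
      have hq : ∀ a b : H × Fin 3, φ a = φ b → a.1 ≠ b.1 → a.1 ∈ R1 → b.1 ∈ R1 →
          ρ b.1 = (1 + (ρ a.1).det) • (1 : M2 p) - ρ a.1 := by
        intro a b hab hne ha hb
        have hm : a.1⁻¹ * b.1 ∈ W := QuotientGroup.eq.1 (by rw [← hmk a, hab, hmk b])
        obtain ⟨ha, haC⟩ := Finset.mem_filter.1 ha
        obtain ⟨hb, hbC⟩ := Finset.mem_filter.1 hb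
        have hd : (ρ a.1).det = (ρ b.1).det := by
          conv_rhs => rw [← mul_inv_cancel_left a.1 b.1, map_mul, Matrix.det_mul, hWd _ hm, mul_one]
        have hne' : (ρ a.1 - ρ b.1).det ≠ 0 := by
          rw [show ρ a.1 - ρ b.1 = ρ a.1 * (1 - ρ (a.1⁻¹ * b.1)) by
            rw [mul_sub, mul_one, ← map_mul, mul_inv_cancel_left], Matrix.det_mul]
          refine mul_ne_zero (coe_detHom ρ a.1 ▸ Units.ne_zero _) ?_
          rw [← neg_sub, Matrix.det_neg, det_sub_one, hWd _ hm, Fintype.card_fin, neg_one_sq, one_mul]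
          intro h0
          exact hnf _ (hWd _ hm) (fun h1 => hne (inv_mul_eq_one.1 h1))
            (by linear_combination -h0)
        rw [eq_sub_iff_add_eq, add_comm]
        exact add_eq_of_fixes ((mem_fixing ρ).1 ha).2 ((mem_fixing ρ).1 hb).2 hd
          (hCcomm _ haC _ hbC) hne'
      have hj : ∀ a b : H × Fin 3, φ a = φ b → a ≠ b → a.1 ≠ b.1 := by
        intro a b hab hne h1
        refine hne (Prod.ext h1 (Fin.ext ?_))
        have h2 : (QuotientGroup.mk a.1 : H ⧸ W).out * s ^ (a.2 : ℕ) =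
            (QuotientGroup.mk b.1 : H ⧸ W).out * s ^ (b.2 : ℕ) := hab
        rw [h1, mul_left_cancel_iff, pow_eq_pow_iff_modEq] at h2
        exact h2.eq_of_lt_of_lt (a.2.isLt.trans_le ho) (b.2.isLt.trans_le ho)
      have e1 := hq a b (ha.2.trans hb.2.symm) (hj a b (ha.2.trans hb.2.symm) hab) ha.1 hb.1
      have e2 := hq a c (ha.2.trans hc.2.symm) (hj a c (ha.2.trans hc.2.symm) hac) ha.1 hc.1
      exact hj b c (hb.2.trans hc.2.symm) hbc (hinj (e1.trans e2.symm))
    have h1 := Finset.card_le_mul_card_image (R1 ×ˢ (univ : Finset (Fin 3))) 2 hfib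
    rw [Finset.card_product, Finset.card_univ, Fintype.card_fin] at h1
    have hsub : (R1 ×ˢ (univ : Finset (Fin 3))).image φ ⊆
        univ.filter (fun g => g ∈ C ∧ g ∉ W) := by
      intro y hy
      obtain ⟨gj, hgj, rfl⟩ := Finset.mem_image.1 hy
      obtain ⟨hg, hgC⟩ := Finset.mem_filter.1 (Finset.mem_product.1 hgj).1
      have hm : gj.1⁻¹ * φ gj ∈ W := QuotientGroup.eq.1 (hmk gj).symm
      refine Finset.mem_filter.2 ⟨Finset.mem_univ _, ?_, fun hW => ?_⟩
      · have := C.mul_mem hgC (hWC hm)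
        rwa [mul_inv_cancel_left] at this
      · refine det_ne_one_of_mem ρ hinj hcop hg (hWd _ ?_)
        have := W.mul_mem hW (W.inv_mem hm)
        rwa [_root_.mul_inv_rev, inv_inv, mul_inv_cancel_left] at this
    have h2 := Finset.card_le_card hsub
    have h3 : (univ.filter fun g => g ∈ C ∧ g ∉ W).card + Nat.card W = Nat.card C := by
      rw [Nat.card_eq_fintype_card, Nat.card_eq_fintype_card, Fintype.card_subtype,
        Fintype.card_subtype, ← Finset.card_union_of_disjoint]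
      · congr 1
        ext g
        simp only [Finset.mem_union, Finset.mem_filter, Finset.mem_univ, true_and]
        exact ⟨fun h => h.elim And.left (@hWC g), fun h => (em (g ∈ W)).elim Or.inr
          (fun h' => Or.inl ⟨h, h'⟩)⟩
      · rw [Finset.disjoint_left]
        intro g hg hg'
        exact (Finset.mem_filter.1 hg).2.2 (Finset.mem_filter.1 hg').2
    have h4 : Nat.card H = Nat.card C * 2 := by rw [← hCidx, Subgroup.card_mul_index]
    have h5 : 3 ≤ Nat.card W := by rw [Nat.card_zpowers]; exact ho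
    omega
  omega

end

section Arith

theorem bound_seven {p F h D : ℝ} (hp : 7 ≤ p) (hh : 2 ≤ h) (hF : h ≤ 3 * F) (hD : h ≤ D ^ 2) :
    0 < (p - 1) ^ 2 * (F * p - 1) - h * p ∧
      (p ^ 2 - 1) * (p ^ 2 * h - (p ^ 2 - 1)) * h ^ 2 <
        ((p - 1) ^ 2 * (F * p - 1) - h * p) ^ 2 * D ^ 2 := by
  set T := (p - 1) ^ 2 * (F * p - 1) - h * p with hT
  have hTge : p ^ 2 * h ≤ T := by
    have h1 : (p - 1) ^ 2 * (h * p / 3 - 1) ≤ (p - 1) ^ 2 * (F * p - 1) :=
      mul_le_mul_of_nonneg_left (by nlinarith) (sq_nonneg _)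
    have hA : (12 : ℝ) ≤ p ^ 2 - 5 * p - 2 := by nlinarith
    have hB : 3 * (p - 1) ^ 2 ≤ 2 * (p * (p ^ 2 - 5 * p - 2)) := by nlinarith
    have hC : 2 * (p * (p ^ 2 - 5 * p - 2)) ≤ h * (p * (p ^ 2 - 5 * p - 2)) :=
      mul_le_mul_of_nonneg_right hh (mul_nonneg (by linarith) (by linarith))
    linarith
  have hpos : 0 < p ^ 2 * h := by positivity
  refine ⟨hpos.trans_le hTge, ?_⟩
  have h2 : (p ^ 2 * h) ^ 2 * h ≤ T ^ 2 * D ^ 2 :=
    mul_le_mul (pow_le_pow_left₀ hpos.le hTge 2) hD (by linarith) (sq_nonneg _)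
  refine lt_of_lt_of_le ?_ h2
  have hN : 0 < p ^ 2 - 1 := by nlinarith
  calc (p ^ 2 - 1) * (p ^ 2 * h - (p ^ 2 - 1)) * h ^ 2
      < (p ^ 2 - 1) * (p ^ 2 * h) * h ^ 2 := by
        apply mul_lt_mul_of_pos_right _ (by positivity)
        exact mul_lt_mul_of_pos_left (by linarith) hN
    _ ≤ p ^ 2 * (p ^ 2 * h) * h ^ 2 := by
        apply mul_le_mul_of_nonneg_right _ (by positivity)
        exact mul_le_mul_of_nonneg_right (by linarith) hpos.le
    _ = (p ^ 2 * h) ^ 2 * h := by ring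

theorem bound_five_empty {h : ℝ} (hh : 2 ≤ h) :
    0 < 16 * ((h - 1) * 5 - 1) - h * 5 ∧
      24 * (25 * h - 24) * h ^ 2 < (16 * ((h - 1) * 5 - 1) - h * 5) ^ 2 * h ^ 2 := by
  refine ⟨by linarith, ?_⟩
  apply mul_lt_mul_of_pos_right _ (by positivity)
  nlinarith

theorem bound_five_half {F h D : ℝ} (hh : 6 ≤ h) (hF : h / 2 - 1 ≤ F)
    (hD : h ≤ 2 * D) :
    0 < 16 * (F * 5 - 1) - h * 5 ∧
      24 * (25 * h - 24) * h ^ 2 < (16 * (F * 5 - 1) - h * 5) ^ 2 * D ^ 2 := by
  have hT : 35 * h - 96 ≤ 16 * (F * 5 - 1) - h * 5 := by linarith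
  refine ⟨by linarith, ?_⟩
  have h2 : (35 * h - 96) ^ 2 * (h / 2) ^ 2 ≤ (16 * (F * 5 - 1) - h * 5) ^ 2 * D ^ 2 :=
    mul_le_mul (pow_le_pow_left₀ (by linarith) hT 2) (pow_le_pow_left₀ (by linarith) (by linarith) 2)
      (by positivity) (sq_nonneg _)
  refine lt_of_lt_of_le ?_ h2
  have : 96 * (25 * h - 24) < (35 * h - 96) ^ 2 := by nlinarith
  nlinarith [mul_lt_mul_of_pos_right this (by positivity : (0 : ℝ) < h ^ 2)]

theorem bound_five_eight {F h D : ℝ} (hh : 8 ≤ h) (hF : h / 2 - 1 ≤ F)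
    (hD : h ≤ D ^ 2) :
    0 < 16 * (F * 5 - 1) - h * 5 ∧
      24 * (25 * h - 24) * h ^ 2 < (16 * (F * 5 - 1) - h * 5) ^ 2 * D ^ 2 := by
  have hT : 35 * h - 96 ≤ 16 * (F * 5 - 1) - h * 5 := by linarith
  refine ⟨by linarith, ?_⟩
  have h2 : (35 * h - 96) ^ 2 * h ≤ (16 * (F * 5 - 1) - h * 5) ^ 2 * D ^ 2 :=
    mul_le_mul (pow_le_pow_left₀ (by linarith) hT 2) hD (by linarith) (sq_nonneg _)
  refine lt_of_lt_of_le ?_ h2
  have : 24 * h * (25 * h - 24) < (35 * h - 96) ^ 2 := by nlinarith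
  nlinarith [mul_lt_mul_of_pos_right this (by linarith : (0 : ℝ) < h)]

theorem bound_five_third {F h D : ℝ} (hh : 2 ≤ h) (hF : 5 * h + 12 ≤ 12 * F) (hD : h ≤ D ^ 2) :
    0 < 16 * (F * 5 - 1) - h * 5 ∧
      24 * (25 * h - 24) * h ^ 2 < (16 * (F * 5 - 1) - h * 5) ^ 2 * D ^ 2 := by
  have hT : 25 * h ≤ 16 * (F * 5 - 1) - h * 5 := by linarith
  refine ⟨by linarith, ?_⟩
  have h2 : (25 * h) ^ 2 * h ≤ (16 * (F * 5 - 1) - h * 5) ^ 2 * D ^ 2 :=
    mul_le_mul (pow_le_pow_left₀ (by linarith) hT 2) hD (by linarith) (sq_nonneg _)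
  refine lt_of_lt_of_le ?_ h2
  nlinarith [pow_pos (by linarith : (0 : ℝ) < h) 3, pow_pos (by linarith : (0 : ℝ) < h) 2]

end Arith

theorem numeric {H : Type*} [Group H] [Finite H] [Group.IsSolvable H] (ρ : H →* M2 p)
    (hp : 5 ≤ p) (hinj : Function.Injective ρ) (hcop : ¬ p ∣ Nat.card H)
    (hirr : ∀ v : Fin 2 → ZMod p, v ≠ 0 → ∃ g : H, ∀ c : ZMod p, ρ g *ᵥ v ≠ c • v)
    (St : Subgroup H) (ℓ : Fin 2 → ZMod p) (hℓ : ℓ ≠ 0)
    (hSt : ∀ g ∈ St, ∀ v, ∃ c : ZMod p, ρ g *ᵥ v - v = c • ℓ) :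
    0 < ((p : ℝ) - 1) ^ 2 * (((Nat.card H : ℝ) - 1 - (fixing ρ).card) * p - 1) -
        (Nat.card H : ℝ) * p ∧
      ((p : ℝ) ^ 2 - 1) * ((p : ℝ) ^ 2 * Nat.card H - ((p : ℝ) ^ 2 - 1)) * (Nat.card H : ℝ) ^ 2 <
        (((p : ℝ) - 1) ^ 2 * (((Nat.card H : ℝ) - 1 - (fixing ρ).card) * p - 1) -
          (Nat.card H : ℝ) * p) ^ 2 * (St.index : ℝ) ^ 2 := by
  classical
  have hpr : p.Prime := Fact.out
  have hp2 : p ≠ 2 := by omega
  have hStf : ∀ g ∈ St, Fixes (ρ g) := by
    intro g hg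
    rw [fixes_iff, ← Matrix.exists_mulVec_eq_zero_iff]
    by_contra hne
    push Not at hne
    have hinj' : Function.Injective (fun v => (ρ g - 1) *ᵥ v) := by
      intro v w hvw
      by_contra hvw'
      exact hne (v - w) (sub_ne_zero.2 hvw') (by rw [Matrix.mulVec_sub]; exact sub_eq_zero.2 hvw)
    have hmem : ∀ v, (ρ g - 1) *ᵥ v ∈ Set.range fun c : ZMod p => c • ℓ := fun v => by
      obtain ⟨c, hc⟩ := hSt g hg v
      exact ⟨c, by rw [Matrix.sub_mulVec, Matrix.one_mulVec, hc]⟩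
    have := Nat.card_le_card_of_injective (fun v => (⟨_, hmem v⟩ : Set.range fun c : ZMod p => c • ℓ))
      fun v w h => hinj' (congrArg Subtype.val h)
    have h2 : Nat.card (Set.range fun c : ZMod p => c • ℓ) ≤ p :=
      (Finite.card_range_le _).trans_eq (Nat.card_zmod p)
    rw [Nat.card_fun, Nat.card_zmod, Nat.card_fin] at this
    nlinarith
  obtain ⟨g₀, hg₀⟩ := hirr ℓ hℓ
  have hg₀1 : g₀ ≠ 1 := fun e => hg₀ 1 (by rw [e, map_one, Matrix.one_mulVec, one_smul])
  have hh2 : 2 ≤ Nat.card H := by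
    by_contra hlt
    have h0 := Nat.card_pos (α := H)
    haveI := (Nat.card_eq_one_iff_unique.1 (by omega : Nat.card H = 1)).1
    exact hg₀1 (Subsingleton.elim _ _)
  have hDi : St.index * (detHom ρ).range.carrier.ncard ≥ Nat.card H := by
    rw [← St.card_mul_index, mul_comm (Nat.card St)]
    refine Nat.mul_le_mul_left _ ?_
    rw [← Nat.card_coe_set_eq]
    refine Nat.card_le_card_of_injective
      (fun g : St => (⟨detHom ρ g, ⟨g, rfl⟩⟩ : (detHom ρ).range.carrier)) fun a b hab => ?_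
    have hab' : detHom ρ (a : H) = detHom ρ b := congrArg Subtype.val hab
    have hk : ((a : H)⁻¹ * b) = 1 := by
      refine ker_det_finite_order ρ hinj hcop ((mem_ker_detHom ρ).1 ?_)
        (hStf _ (St.mul_mem (St.inv_mem a.2) b.2))
      rw [MonoidHom.mem_ker, map_mul, map_inv, hab', inv_mul_cancel]
    exact Subtype.ext (inv_mul_eq_one.1 hk)
  have hDsq : Nat.card H ≤ St.index * St.index := by
    have hle : Nat.card St * Nat.card St ≤ Nat.card H := by
      rw [← Nat.card_prod]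
      refine Nat.card_le_card_of_injective
        (fun ab : St × St => (ab.1 : H) * (g₀ * ab.2 * g₀⁻¹)) ?_
      rintro ⟨a, b⟩ ⟨a', b'⟩ h
      have h' : (a' : H)⁻¹ * a = g₀ * ((b' : H) * (b : H)⁻¹) * g₀⁻¹ := by
        calc (a' : H)⁻¹ * a = (a' : H)⁻¹ * ((a : H) * (g₀ * b * g₀⁻¹)) * (g₀ * b * g₀⁻¹)⁻¹ := by
              group
          _ = (a' : H)⁻¹ * ((a' : H) * (g₀ * b' * g₀⁻¹)) * (g₀ * b * g₀⁻¹)⁻¹ := by
              simp only at h; rw [h]
          _ = _ := by group
      have hx : (a' : H)⁻¹ * a = 1 := by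
        by_contra hx
        set x := (a' : H)⁻¹ * a
        have hx' : ρ x ≠ 1 := fun e => hx (hinj (e.trans (map_one ρ).symm))
        apply hx'
        refine Matrix.ext_of_mulVec_single fun i => ?_
        rw [Matrix.one_mulVec]
        set v : Fin 2 → ZMod p := Pi.single i 1
        obtain ⟨c, hc⟩ := hSt x (St.mul_mem (St.inv_mem a'.2) a.2) v
        obtain ⟨d, hd⟩ := hSt _ (St.mul_mem b'.2 (St.inv_mem b.2)) (ρ g₀⁻¹ *ᵥ v)
        have he : ρ x *ᵥ v - v = d • (ρ g₀ *ᵥ ℓ) := by
          rw [← Matrix.mulVec_smul, ← hd, Matrix.mulVec_sub, Matrix.mulVec_mulVec,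
            Matrix.mulVec_mulVec, Matrix.mulVec_mulVec, ← map_mul, ← map_mul, ← map_mul,
            mul_inv_cancel, map_one, Matrix.one_mulVec, h']
        rcases eq_or_ne d 0 with hd0 | hd0
        · rw [hd0, zero_smul] at he; exact sub_eq_zero.1 he
        · exfalso
          refine hg₀ (d⁻¹ * c) ?_
          rw [mul_smul, ← hc, he, smul_smul, inv_mul_cancel₀ hd0, one_smul]
      have ha : a = a' := Subtype.ext (inv_mul_eq_one.1 hx).symm
      subst ha
      simp only at h
      exact Prod.ext rfl (Subtype.ext (mul_left_cancel (mul_right_cancel (mul_left_cancel h))))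
    have := St.card_mul_index
    nlinarith [Nat.card_pos (α := St)]
  set h : ℕ := Nat.card H with hh
  have hh2' : (2 : ℝ) ≤ h := by exact_mod_cast hh2
  have hD2 : (h : ℝ) ≤ (St.index : ℝ) ^ 2 := by rw [sq]; exact_mod_cast hDsq
  have hp5 : p = 5 → ((p : ℝ) - 1) ^ 2 = 16 ∧ (p : ℝ) ^ 2 - 1 = 24 ∧ (p : ℝ) ^ 2 = 25 ∧
      (p : ℝ) = 5 := by rintro rfl; norm_num
  have hp7 : p ≠ 5 → (7 : ℝ) ≤ p := fun h5 => by
    have : p ≠ 6 := fun h6 => absurd hpr (by rw [h6]; norm_num)
    exact_mod_cast (show 7 ≤ p by omega)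
  rcases (fixing ρ).eq_empty_or_nonempty with he | ⟨g₁, hg₁⟩
  · rw [he, Finset.card_empty, Nat.cast_zero, sub_zero]
    have hSt1 : St.index = h := by
      have : St = ⊥ := (Subgroup.eq_bot_iff_forall St).2 fun g hg => by
        by_contra hg1
        have := (mem_fixing ρ).2 ⟨hg1, hStf g hg⟩
        rw [he] at this
        exact absurd this (Finset.notMem_empty g)
      rw [this, Subgroup.index_bot]
    by_cases h5 : p = 5
    · obtain ⟨e1, e2, e3, e4⟩ := hp5 h5
      rw [e2, e3, e1, e4, hSt1]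
      exact bound_five_empty hh2'
    · exact bound_seven (hp7 h5) hh2' (by linarith) hD2
  have hnc := not_comm_of_fixing ρ hinj hirr hg₁
  have h6 : (6 : ℝ) ≤ h := by exact_mod_cast six_le_card hnc
  set i := (detHom ρ).range.carrier.ncard with hi
  have hiS : Nat.card (detHom ρ).ker * i = h := by
    rw [hi, ← Nat.card_coe_set_eq, hh, ← (detHom ρ).ker.card_mul_index,
      Subgroup.index_ker]
    rfl
  have hhalf : 2 * (fixing ρ).card ≤ h →
      (h : ℝ) / 2 - 1 ≤ (h : ℝ) - 1 - (fixing ρ).card := fun hr => by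
    have : (2 : ℝ) * (fixing ρ).card ≤ h := by exact_mod_cast hr
    linarith
  have hthird : 2 * (fixing ρ).card ≤ h →
      (h : ℝ) ≤ 3 * ((h : ℝ) - 1 - (fixing ρ).card) := fun hr => by
    have := hhalf hr; linarith
  by_cases hz : ∃ z, ρ z = -1
  · have hr := two_mul_fixing_le ρ hinj hcop fun g _ => Or.inr hz
    obtain ⟨z, hz⟩ := hz
    have h8 : (8 : ℝ) ≤ h := by exact_mod_cast eight_le_card ρ hinj hp2 hnc hz
    by_cases h5 : p = 5
    · obtain ⟨e1, e2, e3, e4⟩ := hp5 h5
      rw [e2, e3, e1, e4]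
      exact bound_five_eight h8 (hhalf hr) hD2
    · exact bound_seven (hp7 h5) hh2' (hthird hr) hD2
  by_cases hi2 : i ≤ 2
  · have hr := two_mul_fixing_le ρ hinj hcop fun g hg => Or.inl (by
      have h1 := det_ne_one_of_mem ρ hinj hcop hg
      have hcard : Nat.card (detHom ρ).range ≤ 2 := by
        rw [← Nat.card_coe_set_eq] at hi; rwa [hi] at hi2
      have hsq : detHom ρ g ^ 2 = 1 := by
        have hpos := Nat.card_pos (α := (detHom ρ).range)
        have hd : orderOf (detHom ρ g) ∣ Nat.card (detHom ρ).range :=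
          Subgroup.orderOf_dvd_natCard _ ⟨g, rfl⟩
        have hlt := Nat.le_of_dvd hpos hd
        have hne : orderOf (detHom ρ g) ≠ 1 := fun e => h1 (by
          rw [← coe_detHom, orderOf_eq_one_iff.1 e, Units.val_one])
        have h0 := orderOf_pos (detHom ρ g)
        rw [← show orderOf (detHom ρ g) = 2 by omega, pow_orderOf_eq_one]
      have := congrArg Units.val hsq
      rw [Units.val_pow_eq_pow_val, coe_detHom, Units.val_one, sq_eq_one_iff] at this
      exact this.resolve_left h1)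
    by_cases h5 : p = 5
    · obtain ⟨e1, e2, e3, e4⟩ := hp5 h5
      rw [e2, e3, e1, e4]
      refine bound_five_half h6 (hhalf hr) ?_
      have : h ≤ 2 * St.index := le_trans hDi (by rw [mul_comm]; exact Nat.mul_le_mul_right _ hi2)
      exact_mod_cast this
    · exact bound_seven (hp7 h5) hh2' (hthird hr) hD2
  have hr := fixing_le_of_no_minus ρ hinj hcop hp2 hnc hz
  have hrR : (3 : ℝ) * (fixing ρ).card + 6 ≤ h + 3 * Nat.card (detHom ρ).ker := by
    exact_mod_cast hr
  have hiR : (Nat.card (detHom ρ).ker : ℝ) * i = h := by exact_mod_cast hiS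
  have hi3 : (3 : ℝ) ≤ i := by exact_mod_cast (show 3 ≤ i by omega)
  have hSR : (0 : ℝ) ≤ Nat.card (detHom ρ).ker := Nat.cast_nonneg _
  by_cases h5 : p = 5
  · have hi4 : i = 4 := by
      have hd : i ∣ 4 := by
        rw [hi, ← Nat.card_coe_set_eq]
        have h1 := (detHom ρ).range.card_subgroup_dvd_card
        rw [Nat.card_eq_fintype_card (α := (ZMod p)ˣ), ZMod.card_units] at h1
        exact h1.trans (dvd_of_eq (by omega))
      have : i ≤ 4 := Nat.le_of_dvd (by norm_num) hd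
      interval_cases i <;> omega
    obtain ⟨e1, e2, e3, e4⟩ := hp5 h5
    rw [e2, e3, e1, e4]
    refine bound_five_third hh2' ?_ hD2
    rw [hi4] at hiR
    push_cast at hiR
    linarith
  · refine bound_seven (hp7 h5) hh2' ?_ hD2
    have : (Nat.card (detHom ρ).ker : ℝ) * 3 ≤ h := by
      rw [← hiR]; exact mul_le_mul_of_nonneg_left hi3 hSR
    linarith

end CfsgLib.PairRankTwo
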