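import Cfsg.Agent.PairRankTwo.Count
import Cfsg.Agent.PairRankTwo.Linear
import Cfsg.Agent.ZJ.ConjModule
import Cfsg.Agent.Char.Linear
import Cfsg.Agent.Blocks.Congr
import Mathlib.RingTheory.RootsOfUnity.Complex

/-!
# A simple group whose pairs generate solvable subgroups has no Sylow subgroup of order `p ^ 2`
with irreducible normalizer
-/

set_option autoImplicit false
set_option linter.style.haveILetI false
set_option linter.unusedSectionVars false

namespace CfsgLib.PairRankTwo

open Finset Matrix CfsgLib.Block CfsgLib.Block.Chr CfsgLib.Char CfsgLib.SectionCount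
open scoped ComplexConjugate

universe u

theorem final_arith {p h r S G n w d D : ℝ} (hp : 5 ≤ p) (hh : 1 ≤ h) (hG : 0 < G)
    (hS0 : 0 < S) (hSG : S < G) (hn : 1 ≤ n)
    (hS : S * h * p ^ 2 ≤ G * ((p ^ 2 - 1) + p * ((p - 1) * r)))
    (hT : 0 < (p - 1) ^ 2 * ((h - 1 - r) * p - 1) - h * p)
    (hw : n * ((p + 1) * ((p - 1) * (G - S) - G)) ≤ w * (G - S))
    (hd : w = (p ^ 2 - 1) * n - p ^ 2 * d) (hdD : D ≤ d) (hD : 0 ≤ D)
    (hW : w ^ 2 ≤ (p ^ 2 - 1) * (p ^ 2 * h - (p ^ 2 - 1))) :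
    ((p - 1) ^ 2 * ((h - 1 - r) * p - 1) - h * p) ^ 2 * D ^ 2 ≤
      (p ^ 2 - 1) * (p ^ 2 * h - (p ^ 2 - 1)) * h ^ 2 := by
  set T := (p - 1) ^ 2 * ((h - 1 - r) * p - 1) - h * p with hTdef
  have hY : 0 < G - S := by linarith
  have hX : G * T ≤ h * p ^ 2 * ((p - 1) * (G - S) - G) := by
    have h1 := mul_le_mul_of_nonneg_left hS (show (0 : ℝ) ≤ p - 1 by linarith)
    have h2 : h * p ^ 2 * ((p - 1) * (G - S) - G) =
        G * h * p ^ 2 * (p - 2) - (p - 1) * (S * h * p ^ 2) := by ring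
    have h3 : G * T = G * h * p ^ 2 * (p - 2) -
        (p - 1) * (G * ((p ^ 2 - 1) + p * ((p - 1) * r))) := by rw [hTdef]; ring
    linarith
  have hdY : p ^ 2 * d * (G - S) ≤ n * (p + 1) * G := by
    have : w * (G - S) = (p ^ 2 - 1) * n * (G - S) - p ^ 2 * d * (G - S) := by rw [hd]; ring
    nlinarith
  have hkey : D * T ≤ w * h := by
    have h1 : p ^ 2 * d * (G - S) * T ≤ w * (G - S) * (h * p ^ 2) := by
      calc p ^ 2 * d * (G - S) * T ≤ n * (p + 1) * G * T :=
            mul_le_mul_of_nonneg_right hdY hT.le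
        _ = n * (p + 1) * (G * T) := by ring
        _ ≤ n * (p + 1) * (h * p ^ 2 * ((p - 1) * (G - S) - G)) :=
            mul_le_mul_of_nonneg_left hX (mul_nonneg (by linarith) (by linarith))
        _ = n * ((p + 1) * ((p - 1) * (G - S) - G)) * (h * p ^ 2) := by ring
        _ ≤ _ := mul_le_mul_of_nonneg_right hw (by positivity)
    have h2 : d * T * (p ^ 2 * (G - S)) ≤ w * h * (p ^ 2 * (G - S)) := by linarith
    have h3 : d * T ≤ w * h := le_of_mul_le_mul_right h2 (mul_pos (by positivity) hY)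
    exact (mul_le_mul_of_nonneg_right hdD hT.le).trans h3
  have h4 := pow_le_pow_left₀ (mul_nonneg hD hT.le) hkey 2
  rw [mul_pow, mul_pow] at h4
  calc T ^ 2 * D ^ 2 = D ^ 2 * T ^ 2 := by ring
    _ ≤ w ^ 2 * h ^ 2 := h4
    _ ≤ _ := mul_le_mul_of_nonneg_right hW (sq_nonneg h)

variable {G : Type u} [Group G] [Finite G] {p : ℕ} [Fact p.Prime]

theorem isCommutative_of_isPGroup (P : Sylow p G)
    (hcard : Nat.card (P : Subgroup G) = p ^ 2) (S : Subgroup G) (hS : IsPGroup p S) :
    ∀ a ∈ S, ∀ b ∈ S, a * b = b * a := by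
  intro a ha b hb
  obtain ⟨T, hT⟩ := hS.exists_le_sylow
  haveI := IsPGroup.isMulCommutative_of_card_eq_prime_sq
    (G := (T : Subgroup G)) (p := p) (by rw [Nat.card_congr (T.equiv P).toEquiv, hcard])
  exact congrArg Subtype.val
    (mul_comm' (⟨a, hT ha⟩ : (T : Subgroup G)) ⟨b, hT hb⟩)

set_option maxHeartbeats 800000 in
/-- No simple group with solvable pairs has such a Sylow subgroup. -/
theorem false_of_rank_two [IsSimpleGroup G] (hnc : ∃ a b : G, a * b ≠ b * a) (hp : 5 ≤ p)
    (P : Sylow p G) (hcard : Nat.card (P : Subgroup G) = p ^ 2)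
    (hexp : ∀ x ∈ (P : Subgroup G), x ^ p = 1)
    (hsol : ∀ H : Subgroup G, H ≠ ⊤ → Group.IsSolvable H)
    (hpair : ∀ a b : G, Group.IsSolvable (Subgroup.closure ({a, b} : Set G)))
    (hline : ∀ L : Subgroup G, L ≤ (P : Subgroup G) → Nat.card L = p →
      ∃ n ∈ Subgroup.normalizer ((P : Subgroup G) : Set G), n ∉ Subgroup.normalizer (L : Set G)) :
    False := by
  classical
  haveI : Fintype G := Fintype.ofFinite G
  letI := irrFintype (G := G)
  have hpr : p.Prime := Fact.out
  obtain ⟨a₀, b₀, hab₀⟩ := hnc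
  have hab := isCommutative_of_isPGroup P hcard
  have hsolC : ∀ x : G, x ≠ 1 → Group.IsSolvable (Subgroup.centralizer ({x} : Set G)) := by
    intro x hx
    refine hsol _ fun htop => ?_
    have hxz : x ∈ Subgroup.center G := Subgroup.mem_center_iff.2 fun g =>
      Subgroup.mem_centralizer_singleton_iff.1 (htop.ge (Subgroup.mem_top g))
    rcases IsSimpleGroup.eq_bot_or_eq_top_of_normal (Subgroup.center G) inferInstance with h | h
    · rw [h, Subgroup.mem_bot] at hxz; exact hx hxz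
    · exact hab₀ (Subgroup.mem_center_iff.1 (h.ge (Subgroup.mem_top b₀)) a₀)
  set N := Subgroup.normalizer ((P : Subgroup G) : Set G) with hN
  have hNtop : N ≠ ⊤ := by
    intro h
    have hn : (P : Subgroup G).Normal := Subgroup.normalizer_eq_top_iff.1 h
    rcases IsSimpleGroup.eq_bot_or_eq_top_of_normal _ hn with h' | h'
    · rw [h', Subgroup.card_bot] at hcard
      exact absurd hcard.symm (Nat.one_lt_pow two_ne_zero hpr.one_lt).ne'
    · exact hab₀ (hab _ P.2 a₀ (h'.ge (Subgroup.mem_top _)) b₀ (h'.ge (Subgroup.mem_top _)))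
  haveI hNsol : Group.IsSolvable N := hsol N hNtop
  -- the linear group
  have hE : Cfsg.IsElementaryAbelian p (P : Subgroup G) :=
    ⟨⟨⟨fun a b => Subtype.ext (hab _ P.2 a a.2 b b.2)⟩⟩, hexp⟩
  let V := ZJ.ElabMod (P : Subgroup G) hE
  have hfin : Module.finrank (ZMod p) V = 2 := by
    have h := Module.natCard_eq_pow_finrank (K := ZMod p) (V := V)
    rw [Nat.card_zmod, show Nat.card V = Nat.card (P : Subgroup G) from rfl, hcard] at h
    exact (Nat.pow_right_injective hpr.two_le h).symm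
  let b : Module.Basis (Fin 2) (ZMod p) V := Module.finBasisOfFinrankEq _ _ hfin
  let e : ↥(P : Subgroup G) → (Fin 2 → ZMod p) := fun v => ⇑(b.repr (ZJ.toVec hE v))
  have he_inj : Function.Injective e := fun v w h => by
    have := b.repr.injective (DFunLike.coe_injective h)
    simpa using congrArg (ZJ.ofVec hE) this
  have he_one : e 1 = 0 := by
    show ⇑(b.repr (0 : V)) = 0
    rw [map_zero]; rfl
  have he_mul : ∀ v w, e (v * w) = e v + e w := fun v w => by
    show ⇑(b.repr (ZJ.toVec hE v + ZJ.toVec hE w)) = _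
    rw [map_add]; rfl
  have he_pow : ∀ (v : (P : Subgroup G)) (k : ℕ), e (v ^ k) = (k : ZMod p) • e v := by
    intro v k
    induction k with
    | zero => rw [pow_zero, he_one, Nat.cast_zero, zero_smul]
    | succ k ih => rw [pow_succ, he_mul, ih, Nat.cast_succ, add_smul, one_smul]
  let ρ₀ : N →* M2 p :=
    (LinearMap.toMatrixAlgEquiv b).toMonoidHom.comp (ZJ.conjEnd hE)
  have hρ₀ : ∀ (n : N) (v : (P : Subgroup G)), ρ₀ n *ᵥ e v = e (ZJ.conjHom (P : Subgroup G) n v) :=
    fun n v => LinearMap.toMatrix_mulVec_repr b b (ZJ.conjEnd hE n) (ZJ.toVec hE v)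
  let f : N →* (M2 p)ˣ := ρ₀.toHomUnits
  let H : Subgroup (M2 p)ˣ := f.range
  let fr : N →* H := f.rangeRestrict
  have hfr : Function.Surjective fr := f.rangeRestrict_surjective
  let ρ : H →* M2 p := (Units.coeHom (M2 p)).comp H.subtype
  have hρinj : Function.Injective ρ := fun a c h => Subtype.ext (Units.ext h)
  have hρfr : ∀ n, ρ (fr n) = ρ₀ n := fun _ => rfl
  haveI : Group.IsSolvable H := solvable_of_surjective hfr
  have hker : fr.ker = centN (P : Subgroup G) := by
    ext n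
    rw [MonoidHom.mem_ker]
    constructor
    · intro h
      have h1 : ρ₀ n = 1 := by rw [← hρfr, h, map_one]
      exact (ZJ.conjEnd_eq_one_iff hE n).1
        ((LinearMap.toMatrixAlgEquiv b).injective (h1.trans (map_one _).symm))
    · intro h
      refine Subtype.ext (Units.ext ?_)
      show ρ₀ n = 1
      show (LinearMap.toMatrixAlgEquiv b) (ZJ.conjEnd hE n) = 1
      rw [(ZJ.conjEnd_eq_one_iff hE n).2 h, map_one]
  have hHcard : Nat.card H = (centN (P : Subgroup G)).index := by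
    rw [← hker, Subgroup.index_ker, MonoidHom.range_eq_top.2 hfr, Subgroup.card_top]
  have hcop : ¬ p ∣ Nat.card H := by
    rw [hHcard]
    intro h
    refine P.not_dvd_index (h.trans ?_)
    refine (Subgroup.index_dvd_of_le
      (H := (P : Subgroup G).subgroupOf N) fun v hv =>
        (show (v : G) ∈ Subgroup.centralizer ((P : Subgroup G) : Set G) from
          Subgroup.mem_centralizer_iff.2 fun w hw => hab _ P.2 w hw v hv)).trans ?_
    exact Subgroup.relIndex_dvd_index_of_le Subgroup.le_normalizer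
  have hline' : ∀ a : (P : Subgroup G), a ≠ 1 → ∃ n : N, ∀ c : ZMod p,
      ρ (fr n) *ᵥ e a ≠ c • e a := by
    intro a ha
    have hao : orderOf (a : G) = p :=
      orderOf_eq_prime (hexp a a.2) fun h => ha (Subtype.ext h)
    obtain ⟨n, hn, hnL⟩ := hline (Subgroup.zpowers (a : G)) (Subgroup.zpowers_le.2 a.2)
      (by rw [Nat.card_zpowers, hao])
    refine ⟨⟨n, hn⟩, fun c hc => hnL ?_⟩
    rw [hρfr, hρ₀, ← ZMod.natCast_zmod_val c, ← he_pow] at hc
    have hc' : n * (a : G) * n⁻¹ = (a : G) ^ c.val := congrArg Subtype.val (he_inj hc)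
    rw [Subgroup.mem_normalizer_iff_map_conj_eq, MonoidHom.map_zpowers]
    refine Solvable.eq_of_le_of_card_le (Subgroup.zpowers_le.2 ?_) ?_
    · show n * (a : G) * n⁻¹ ∈ Subgroup.zpowers (a : G)
      rw [hc']; exact Subgroup.pow_mem _ (Subgroup.mem_zpowers _) _
    · rw [Nat.card_zpowers, Nat.card_zpowers]
      exact (MulAut.conj n).orderOf_eq _ ▸ le_rfl
  have he_surj : Function.Surjective e := fun v => ⟨ZJ.ofVec hE (b.repr.symm
    (Finsupp.equivFunOnFinite.symm v)), by
      show ⇑(b.repr (ZJ.toVec hE (ZJ.ofVec hE _))) = v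
      rw [ZJ.toVec_ofVec, LinearEquiv.apply_symm_apply]
      rfl⟩
  have hirr : ∀ v : Fin 2 → ZMod p, v ≠ 0 → ∃ g : H, ∀ c : ZMod p, ρ g *ᵥ v ≠ c • v := by
    intro v hv
    obtain ⟨a, rfl⟩ := he_surj v
    obtain ⟨n, hn⟩ := hline' a fun h => hv (by rw [h, he_one])
    exact ⟨fr n, hn⟩
  -- the sum of the orders of the stabilisers
  set m : G → ℕ := fun a => (centN (P : Subgroup G)).relIndex (stabN (P : Subgroup G) a)
  set E : G → (Fin 2 → ZMod p) := fun a => if h : a ∈ (P : Subgroup G) then e ⟨a, h⟩ else 0 with hEdef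
  have hm : ∀ a ∈ psharp (P : Subgroup G),
      m a ≤ 1 + ((fixing ρ).filter fun g => ρ g *ᵥ E a = E a).card := by
    intro a ha
    have haP := (mem_psharp.1 ha).1
    set S := stabN (P : Subgroup G) a
    have hcardS : m a = Nat.card (S.map fr) := by
      show (centN (P : Subgroup G)).relIndex S = _
      rw [← hker, Subgroup.relIndex, show fr.ker.subgroupOf S = (fr.comp S.subtype).ker from rfl,
        Subgroup.index_ker, MonoidHom.range_comp, Subgroup.range_subtype]
    haveI : Fintype H := Fintype.ofFinite _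
    rw [hcardS, Nat.card_eq_fintype_card, Fintype.card_subtype, add_comm]
    refine le_trans (Finset.card_le_card ?_) (Finset.card_insert_le 1 _)
    intro g hg
    obtain ⟨n, hn, rfl⟩ := (Finset.mem_filter.1 hg).2
    rw [Finset.mem_insert]
    by_cases h1 : fr n = 1
    · exact Or.inl h1
    refine Or.inr (Finset.mem_filter.2 ?_)
    have hfix : ρ (fr n) *ᵥ E a = E a := by
      simp only [hEdef, dif_pos haP]
      rw [hρfr, hρ₀]
      refine congrArg e (Subtype.ext ?_)
      show (n : G) * a * (n : G)⁻¹ = a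
      rw [mul_inv_eq_iff_eq_mul]
      exact Subgroup.mem_centralizer_singleton_iff.1 hn
    refine ⟨(mem_fixing ρ).2 ⟨h1, (fixes_iff_exists _).2 ⟨E a, fun h0 => ?_, hfix⟩⟩, hfix⟩
    simp only [hEdef, dif_pos haP, ← he_one] at h0
    exact (mem_psharp.1 ha).2 (congrArg Subtype.val (he_inj h0))
  have hfixline : ∀ g ∈ fixing ρ,
      ((psharp (P : Subgroup G)).filter fun a => ρ g *ᵥ E a = E a).card ≤ p - 1 := by
    intro g hg
    obtain ⟨hg1, hgf⟩ := (mem_fixing ρ).1 hg
    obtain ⟨v, hv, hgv⟩ := (fixes_iff_exists _).1 hgf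
    have hg1' : ρ g ≠ 1 := fun h => hg1 (hρinj (h.trans (map_one ρ).symm))
    calc ((psharp (P : Subgroup G)).filter fun a => ρ g *ᵥ E a = E a).card
        ≤ ((Finset.univ.erase (0 : ZMod p)).image fun c => c • v).card := by
          refine Finset.card_le_card_of_injOn E (fun a ha => ?_) fun a ha c hc h => ?_
          · obtain ⟨ha, haf⟩ := Finset.mem_filter.1 ha
            obtain ⟨c, hc⟩ := exists_smul_of_fixed hg1' hv hgv haf
            refine Finset.mem_image.2 ⟨c, Finset.mem_erase.2 ⟨fun h0 => ?_, mem_univ _⟩, hc.symm⟩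
            rw [h0, zero_smul] at hc
            simp only [hEdef, dif_pos (mem_psharp.1 ha).1, ← he_one] at hc
            exact (mem_psharp.1 ha).2 (congrArg Subtype.val (he_inj hc))
          · have ha' := (mem_psharp.1 (Finset.mem_filter.1 ha).1).1
            have hc' := (mem_psharp.1 (Finset.mem_filter.1 hc).1).1
            simp only [hEdef, dif_pos ha', dif_pos hc'] at h
            exact congrArg Subtype.val (he_inj h)
      _ ≤ (Finset.univ.erase (0 : ZMod p)).card := Finset.card_image_le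
      _ = p - 1 := by rw [Finset.card_erase_of_mem (mem_univ _), card_univ, ZMod.card]
  have hsum : ∑ a ∈ psharp (P : Subgroup G), m a ≤
      (psharp (P : Subgroup G)).card + (p - 1) * (fixing ρ).card := by
    refine le_trans (Finset.sum_le_sum hm) ?_
    rw [Finset.sum_add_distrib, Finset.sum_const, smul_eq_mul, mul_one]
    refine Nat.add_le_add_left ?_ _
    simp only [Finset.card_filter]
    rw [Finset.sum_comm, mul_comm, ← smul_eq_mul]
    refine Finset.sum_le_card_nsmul _ _ _ fun g hg => ?_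
    rw [← Finset.card_filter]
    exact hfixline g hg
  have hN2 : ((psharp (P : Subgroup G)).card : ℝ) = (p : ℝ) ^ 2 - 1 := by
    have h := card_psharp (P : Subgroup G)
    rw [hcard] at h
    have h' : ((psharp (P : Subgroup G)).card : ℝ) + 1 = ((p ^ 2 : ℕ) : ℝ) := by exact_mod_cast h
    push_cast at h'
    linarith
  have hpR : (5 : ℝ) ≤ p := by exact_mod_cast hp
  have hS : ((sing G p).card : ℝ) * Nat.card H * (p : ℝ) ^ 2 ≤
      (Nat.card G : ℝ) * (((p : ℝ) ^ 2 - 1) + p * (((p : ℝ) - 1) * (fixing ρ).card)) := by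
    have h := sing_bound P hcard hexp hab hsolC
    rw [← hHcard] at h
    have h' := h.trans (Nat.add_le_add_left (Nat.mul_le_mul_left _ (Nat.mul_le_mul_left _ hsum)) _)
    have h'' : ((sing G p).card : ℝ) * Nat.card H * ((p : ℝ) ^ 2 * p) +
        (Nat.card G : ℝ) * ((p : ℝ) ^ 2 * (psharp (P : Subgroup G)).card) ≤
        (Nat.card G : ℝ) * (p * (psharp (P : Subgroup G)).card) + (Nat.card G : ℝ) *
          ((p : ℝ) ^ 2 *
            ((psharp (P : Subgroup G)).card + ((p - 1 : ℕ) : ℝ) * (fixing ρ).card)) := by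
      exact_mod_cast h'
    rw [Nat.cast_sub hpr.one_le, Nat.cast_one, hN2] at h''
    refine le_of_mul_le_mul_right ?_ (show (0 : ℝ) < p by linarith)
    linarith
  obtain ⟨M, hM⟩ := exists_isPModular hpr
  haveI : M.IsPrime := hM.2.1.isPrime
  obtain ⟨u₀, hu₀⟩ : (psharp (P : Subgroup G)).Nonempty := by
    rw [← Finset.card_pos]
    have h := card_psharp (P : Subgroup G)
    rw [hcard] at h
    have : 1 < p ^ 2 := Nat.one_lt_pow two_ne_zero hpr.one_lt
    omega
  have hSpos : (0 : ℝ) < (sing G p).card := by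
    have : 0 < (sing G p).card := Finset.card_pos.2
      ⟨u₀, mem_sing.2 (by rw [orderOf_of_mem_psharp hexp hu₀])⟩
    exact_mod_cast this
  have hSG : ((sing G p).card : ℝ) < Nat.card G := by
    have : (sing G p).card < Nat.card G := by
      rw [Nat.card_eq_fintype_card, ← Finset.card_univ]
      refine Finset.card_lt_card (Finset.ssubset_iff.2 ⟨1, fun h => hpr.not_dvd_one ?_,
        Finset.subset_univ _⟩)
      have := mem_sing.1 h
      rwa [orderOf_one] at this
    exact_mod_cast this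
  have hGpos : (0 : ℝ) < Nat.card G := by exact_mod_cast Nat.card_pos
  have hhpos : (1 : ℝ) ≤ Nat.card H := by exact_mod_cast Nat.card_pos
  -- a bound for the numerical inequality
  have hnum : ∀ (St : Subgroup H) (ℓ : Fin 2 → ZMod p), ℓ ≠ 0 →
      (∀ g ∈ St, ∀ v, ∃ c : ZMod p, ρ g *ᵥ v - v = c • ℓ) → _ :=
    fun St ℓ hℓ hSt => numeric ρ hp hρinj hcop hirr St ℓ hℓ hSt
  have hT : 0 < ((p : ℝ) - 1) ^ 2 * (((Nat.card H : ℝ) - 1 - (fixing ρ).card) * p - 1) -
      (Nat.card H : ℝ) * p := by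
    refine (hnum ⊥ (fun _ => 1) (fun h => one_ne_zero (congrFun h 0)) fun g hg v => ⟨0, ?_⟩).1
    rw [Subgroup.mem_bot.1 hg, map_one, Matrix.one_mulVec, sub_self, zero_smul]
  set X : ℝ := ((p : ℝ) - 1) * ((Nat.card G : ℝ) - (sing G p).card) - Nat.card G with hXdef
  have hXpos : 0 < X := by
    have h1 := mul_le_mul_of_nonneg_left hS (show (0 : ℝ) ≤ (p : ℝ) - 1 by linarith)
    have h3 : (Nat.card G : ℝ) * (((p : ℝ) - 1) ^ 2 *
        (((Nat.card H : ℝ) - 1 - (fixing ρ).card) * p - 1) - (Nat.card H : ℝ) * p) =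
        (Nat.card G : ℝ) * Nat.card H * (p : ℝ) ^ 2 * ((p : ℝ) - 2) -
        ((p : ℝ) - 1) * ((Nat.card G : ℝ) *
          (((p : ℝ) ^ 2 - 1) + p * (((p : ℝ) - 1) * (fixing ρ).card))) := by ring
    have h4 : 0 < (Nat.card H : ℝ) * (p : ℝ) ^ 2 * X := by
      refine lt_of_lt_of_le (mul_pos hGpos hT) ?_
      rw [h3, hXdef]
      linarith
    exact (pos_iff_pos_of_mul_pos h4).1 (by positivity)
  -- the trivial character
  set B := blockSet G M with hB
  have h1B : oneIrr G ∈ B := Finset.mem_filter.2 ⟨mem_univ _, oneIrr_mem_principalBlock⟩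
  have hw1 : (sumP P (oneIrr G)).re = (p : ℝ) ^ 2 - 1 := by
    rw [sumP]; simp [hN2]
  have hF1 : Complex.normSq (sumSing p (oneIrr G)) = ((sing G p).card : ℝ) ^ 2 := by
    rw [sumSing]; simp [sq]
  have hlow : ((p : ℝ) + 1) * ((p : ℝ) - 2) * ((Nat.card G : ℝ) * (sing G p).card) ≤
      ∑ χ ∈ B, (sumP P χ).re * Complex.normSq (sumSing p χ) / ((χ : G → ℂ) 1).re := by
    have h := weighted_lower P hexp hab hsolC hM hpair
    rw [hN2, Nat.cast_sub (by omega : 2 ≤ p), Nat.cast_sub hpr.one_le] at h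
    push_cast at h
    refine le_of_mul_le_mul_left ?_ (show (0 : ℝ) < (p : ℝ) - 1 by linarith)
    linarith
  obtain ⟨χ, hχ, hbig⟩ := exists_big B h1B
    (w := fun χ => (sumP P χ).re) (q := fun χ => Complex.normSq (sumSing p χ))
    (n := fun χ => ((χ : G → ℂ) 1).re)
    (A := ((sing G p).card : ℝ) * (((p : ℝ) + 1) * X))
    (Z := ((sing G p).card : ℝ) * ((Nat.card G : ℝ) - (sing G p).card))
    (fun χ _ => Complex.normSq_nonneg _)
    (fun χ _ => by rw [(irr_one χ).1, Complex.natCast_re]; exact_mod_cast (irr_one χ).2)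
    (mul_pos hSpos (mul_pos (by linarith) hXpos))
    (by
      refine le_trans (le_of_eq ?_) hlow
      simp only [hw1, hF1, oneIrr_apply, Complex.one_re, div_one, hXdef]
      ring)
    (by
      have h := sum_sq_sumSing (G := G) (p := p)
      have h' : ∑ χ ∈ B.erase (oneIrr G), Complex.normSq (sumSing p χ) +
          Complex.normSq (sumSing p (oneIrr G)) ≤ (Nat.card G : ℝ) * (sing G p).card := by
        rw [← h, Finset.sum_erase_add _ _ h1B]
        exact Finset.sum_le_univ_sum_of_nonneg fun χ => Complex.normSq_nonneg _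
      rw [hF1] at h'
      linarith)
  obtain ⟨hχ1, hχB⟩ := Finset.mem_erase.1 hχ
  -- the restriction to `P`
  haveI : Fintype (P : Subgroup G) := Fintype.ofFinite _
  set θ : ↥(P : Subgroup G) → ℂ := fun v => (χ : G → ℂ) v with hθ
  have hθc : Cfsg.IsCharacter (P : Subgroup G) θ := IsCharacter.restrict (isCharacter_irr χ) _
  have hex : ∀ ψ : ↥(P : Subgroup G) → ℂ, ∃ c : ℕ, ψ ∈ irrFinset (P : Subgroup G) →
      Cfsg.classInner θ ψ = c := fun ψ => by
    by_cases hψ : ψ ∈ irrFinset (P : Subgroup G)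
    · obtain ⟨c, hc⟩ := IsCharacter.exists_classInner_eq_natCast hθc (mem_irrFinset.1 hψ)
      exact ⟨c, fun _ => hc⟩
    · exact ⟨0, fun h => absurd h hψ⟩
  choose c hc using hex
  have hlin : ∀ ψ ∈ irrFinset (P : Subgroup G), ψ 1 = 1 := fun ψ hψ =>
    IsIrrCharacter.apply_one_eq_one (mem_irrFinset.1 hψ) fun a b => Subtype.ext (hab _ P.2 a a.2 b b.2)
  have hexpand : ∀ v, θ v = ∑ ψ ∈ irrFinset (P : Subgroup G), (c ψ : ℂ) * ψ v := by
    intro v
    conv_lhs => rw [eq_sum_irr (IsCharacter.isClassFunction hθc)]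
    rw [Finset.sum_apply]
    exact Finset.sum_congr rfl fun ψ hψ => by rw [Pi.smul_apply, smul_eq_mul, hc ψ hψ]
  set nχ := Cfsg.charDegree (χ : G → ℂ) with hnχ
  have hn : nχ = ∑ ψ ∈ irrFinset (P : Subgroup G), c ψ := by
    have h := hexpand 1
    rw [Finset.sum_congr rfl fun ψ hψ => by rw [hlin ψ hψ, mul_one],
      show θ 1 = (nχ : ℂ) from (irr_one χ).1] at h
    exact_mod_cast h
  set one : ↥(P : Subgroup G) → ℂ := fun _ => 1 with hone
  have hone_mem : one ∈ irrFinset (P : Subgroup G) := mem_irrFinset.2 (oneIrr (P : Subgroup G)).2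
  have hW : sumP P χ = (p : ℂ) ^ 2 * c one - nχ := by
    have h := hc one hone_mem
    rw [Cfsg.classInner] at h
    simp only [hone, map_one, mul_one] at h
    rw [hcard, inv_mul_eq_iff_eq_mul₀ (by exact_mod_cast (pow_pos hpr.pos 2).ne'), Nat.cast_pow] at h
    have h2 : ∑ v : (P : Subgroup G), θ v = sumP P χ + (χ : G → ℂ) 1 := by
      rw [sumP, ← Finset.sum_subtype (insert (1 : G) (psharp (P : Subgroup G)))
        (fun v => by
          rw [Finset.mem_insert, mem_psharp]
          by_cases hv : v = 1 <;> simp [hv, one_mem]) (fun v => (χ : G → ℂ) v),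
        Finset.sum_insert (fun h => (mem_psharp.1 h).2 rfl), add_comm]
    rw [(irr_one χ).1] at h2
    linear_combination h - h2
  obtain ⟨ψ₀, hψ₀, hψ₀1, hψ₀c⟩ :
      ∃ ψ₀ ∈ irrFinset (P : Subgroup G), ψ₀ ≠ one ∧ c ψ₀ ≠ 0 := by
    by_contra hne
    push Not at hne
    have hconst : ∀ v, θ v = θ 1 := fun v => by
      rw [hexpand v, hexpand 1]
      refine Finset.sum_congr rfl fun ψ hψ => ?_
      by_cases h1 : ψ = one
      · rw [h1]
      · rw [hne ψ hψ h1, Nat.cast_zero, zero_mul, zero_mul]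
    obtain ⟨k, σ, hirrσ, hσ⟩ := χ.2
    have hu : σ u₀ = 1 := apply_eq_one_of_character_eq σ (by
      rw [hσ, Module.finrank_fin_fun]
      have := hconst ⟨u₀, (mem_psharp.1 hu₀).1⟩
      show (χ : G → ℂ) u₀ = _
      rw [show (χ : G → ℂ) u₀ = (χ : G → ℂ) 1 from this, ← hσ, σ.char_one, Module.finrank_fin_fun])
    have hker : ∀ g, σ g = 1 := by
      rcases IsSimpleGroup.eq_bot_or_eq_top_of_normal (MonoidHom.ker σ) inferInstance with h | h
      · exact absurd (Subgroup.mem_bot.1 (h.le (show u₀ ∈ MonoidHom.ker σ from hu)))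
          (mem_psharp.1 hu₀).2
      · exact fun g => (h.ge (Subgroup.mem_top g) : g ∈ MonoidHom.ker σ)
    have hχc : ∀ g, (χ : G → ℂ) g = (χ : G → ℂ) 1 := fun g => by
      rw [← hσ]
      show LinearMap.trace ℂ _ (σ g) = LinearMap.trace ℂ _ (σ 1)
      rw [hker g, hker 1]
    have h0 := classInner_irr χ (oneIrr G)
    rw [if_neg hχ1, Cfsg.classInner] at h0
    simp only [hχc, oneIrr_apply, map_one, mul_one, Finset.sum_const, card_univ, nsmul_eq_mul,
      mul_eq_zero, inv_eq_zero, Nat.cast_eq_zero] at h0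
    rcases h0 with h | h | h
    · exact Nat.card_pos.ne' h
    · exact Fintype.card_ne_zero h
    · exact irr_one_ne_zero χ h
  obtain ⟨lam, hlam⟩ := IsCharacter.exists_hom
    (IsIrrCharacter.isCharacter (mem_irrFinset.1 hψ₀)) (hlin ψ₀ hψ₀)
  have hψlam : ∀ v, ψ₀ v = (lam v : ℂ) := fun v => congrFun hlam v
  -- the stabiliser
  let St₀ : Subgroup N :=
    { carrier := {n | ∀ v, ψ₀ (ZJ.conjHom (P : Subgroup G) n v) = ψ₀ v}
      one_mem' := fun v => by rw [map_one]; rfl
      mul_mem' := fun {a d} ha hd v => by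
        rw [map_mul, MulAut.mul_apply, ha, hd]
      inv_mem' := fun {a} ha v => by
        rw [← ha (ZJ.conjHom (P : Subgroup G) a⁻¹ v), ← MulAut.mul_apply, ← map_mul, mul_inv_cancel,
          map_one]
        rfl }
  have hkerSt : fr.ker ≤ St₀ := by
    rw [hker]
    intro n hn v
    congr 1
    apply Subtype.ext
    show (n : G) * v * (n : G)⁻¹ = v
    have h := Subgroup.mem_centralizer_iff.1 hn v v.2
    simp only [Subgroup.coe_subtype] at h
    rw [← h, mul_inv_cancel_right]
  have hkerlam : Nat.card lam.ker = p := by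
    have hrange : Nat.card lam.range ≤ p := by
      haveI : NeZero p := ⟨hpr.ne_zero⟩
      refine le_trans (Nat.card_le_card_of_injective
        (Subgroup.inclusion (K := rootsOfUnity p ℂ) ?_) (Subgroup.inclusion_injective _))
        (Complex.card_rootsOfUnity p).le
      rintro _ ⟨v, rfl⟩
      show lam v ^ p = 1
      rw [← map_pow, show v ^ p = 1 from Subtype.ext (hexp v v.2), map_one]
    have hmul : Nat.card lam.ker * Nat.card lam.range = p ^ 2 := by
      rw [← hcard, ← Subgroup.index_ker, Subgroup.card_mul_index]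
    obtain ⟨j, hj, hjk⟩ := (Nat.dvd_prime_pow hpr).1 (Dvd.intro _ hmul)
    interval_cases j
    · rw [hjk, pow_zero, one_mul] at hmul
      rw [hmul] at hrange
      nlinarith
    · rw [hjk, pow_one]
    · exfalso
      apply hψ₀1
      funext v
      have htop : lam.ker = ⊤ := Subgroup.eq_top_of_card_eq _ (hjk.trans hcard.symm)
      rw [hψlam, (htop.ge (Subgroup.mem_top v) : v ∈ lam.ker)]
      simp [hone]
  obtain ⟨a₁, ha₁, ha₁1⟩ : ∃ a ∈ lam.ker, a ≠ 1 := by
    refine lam.ker.bot_or_exists_ne_one.resolve_left fun h => ?_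
    rw [h, Subgroup.card_bot] at hkerlam
    exact hpr.ne_one hkerlam.symm
  have hker1 : lam.ker = Subgroup.zpowers a₁ := by
    symm
    refine Solvable.eq_of_le_of_card_le (Subgroup.zpowers_le.2 ha₁) ?_
    rw [hkerlam, Nat.card_zpowers, orderOf_eq_prime (Subtype.ext (hexp a₁ a₁.2)) ha₁1]
  have hStlin : ∀ g ∈ St₀.map fr, ∀ v, ∃ k : ZMod p, ρ g *ᵥ v - v = k • e a₁ := by
    rintro _ ⟨n, hn, rfl⟩ v
    obtain ⟨a, rfl⟩ := he_surj v
    have hmem : ZJ.conjHom (P : Subgroup G) n a * a⁻¹ ∈ lam.ker := by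
      rw [MonoidHom.mem_ker, map_mul, map_inv, mul_inv_eq_one]
      exact Units.ext (by rw [← hψlam, ← hψlam]; exact hn a)
    rw [hker1, ← mem_powers_iff_mem_zpowers] at hmem
    obtain ⟨k, hk⟩ := hmem
    refine ⟨k, ?_⟩
    rw [hρfr, hρ₀, sub_eq_iff_eq_add, ← he_pow, ← he_mul, show a₁ ^ k = _ from hk,
      inv_mul_cancel_right]
  have he1 : e a₁ ≠ 0 := fun h => ha₁1 (he_inj (h.trans he_one.symm))
  obtain ⟨-, hnum2⟩ := hnum (St₀.map fr) (e a₁) he1 hStlin
  rw [Subgroup.index_map_eq St₀ hfr hkerSt] at hnum2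
  -- the orbit of the constituent
  have hD : c one + St₀.index ≤ nχ := by
    haveI : Fintype (N ⧸ St₀) := Fintype.ofFinite _
    let tw : N → ↥(P : Subgroup G) → ℂ := fun n v => ψ₀ (ZJ.conjHom (P : Subgroup G) n v)
    have htw_irr : ∀ n, tw n ∈ irrFinset (P : Subgroup G) := fun n =>
      mem_irrFinset.2 (IsIrrCharacter.comp_surjective (mem_irrFinset.1 hψ₀)
        (ZJ.conjHom (P : Subgroup G) n).toMonoidHom (MulEquiv.surjective _))
    have htw_ne : ∀ n, tw n ≠ one := fun n h => hψ₀1 (funext fun v => by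
      obtain ⟨w, rfl⟩ := (ZJ.conjHom (P : Subgroup G) n).surjective v
      exact congrFun h w)
    have htw_c : ∀ n, c (tw n) = c ψ₀ := by
      intro n
      have h1 := hc _ (htw_irr n)
      have h2 := hc ψ₀ hψ₀
      rw [Cfsg.classInner] at h1 h2
      rw [show (∑ v, θ v * conj (tw n v)) = ∑ v, θ v * conj (ψ₀ v) from
        Fintype.sum_equiv (ZJ.conjHom (P : Subgroup G) n).toEquiv _ _ fun v => by
          show θ v * conj (ψ₀ (ZJ.conjHom (P : Subgroup G) n v)) =
            θ (ZJ.conjHom (P : Subgroup G) n v) * conj (ψ₀ (ZJ.conjHom (P : Subgroup G) n v))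
          congr 1
          exact (isClassFunction_irr χ (v : G) (n : G)).symm, h2] at h1
      exact_mod_cast h1.symm
    let orb : Finset (↥(P : Subgroup G) → ℂ) := Finset.univ.image fun q : N ⧸ St₀ => tw q.out⁻¹
    have horb : orb.card = St₀.index := by
      rw [Finset.card_image_of_injective, Finset.card_univ, Subgroup.index,
        Nat.card_eq_fintype_card]
      intro q q' h
      rw [← QuotientGroup.out_eq' q, ← QuotientGroup.out_eq' q', QuotientGroup.eq]
      intro v
      have := congrFun h (ZJ.conjHom (P : Subgroup G) q'.out v)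
      simp only [tw, ← MulAut.mul_apply, ← map_mul, inv_mul_cancel, map_one, MulAut.one_apply] at this
      exact this
    have hsub : orb ⊆ (irrFinset (P : Subgroup G)).erase one := fun ψ hψ => by
      obtain ⟨q, -, rfl⟩ := Finset.mem_image.1 hψ
      exact Finset.mem_erase.2 ⟨htw_ne _, htw_irr _⟩
    rw [hn, ← Finset.add_sum_erase _ _ hone_mem, ← horb]
    refine Nat.add_le_add_left (le_trans ?_ (Finset.sum_le_sum_of_subset hsub)) _
    rw [Finset.card_eq_sum_ones]
    refine Finset.sum_le_sum fun ψ hψ => ?_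
    obtain ⟨q, -, rfl⟩ := Finset.mem_image.1 hψ
    rw [htw_c]
    exact Nat.one_le_iff_ne_zero.2 hψ₀c
  -- the final inequality
  have hwre : (sumP P χ).re = (p : ℝ) ^ 2 * c one - nχ := by
    rw [hW, ← Nat.cast_pow, ← Nat.cast_mul, Complex.sub_re, Complex.natCast_re, Complex.natCast_re]
    push_cast
    rfl
  have hWsq : (sumP P χ).re ^ 2 ≤
      ((p : ℝ) ^ 2 - 1) * ((p : ℝ) ^ 2 * Nat.card H - ((p : ℝ) ^ 2 - 1)) := by
    have h := sum_sq_sumP P hcard hexp hab hsolC hM
    rw [Nat.cast_mul, Nat.cast_mul, Nat.cast_pow, hN2, ← hHcard] at h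
    have h2 : Complex.normSq (sumP P χ) + Complex.normSq (sumP P (oneIrr G)) ≤
        ∑ ζ ∈ B, Complex.normSq (sumP P ζ) := by
      rw [← Finset.sum_pair (f := fun ζ => Complex.normSq (sumP P ζ)) hχ1]
      exact Finset.sum_le_sum_of_subset_of_nonneg
        (Finset.insert_subset_iff.2 ⟨hχB, Finset.singleton_subset_iff.2 h1B⟩)
        fun ζ _ _ => Complex.normSq_nonneg _
    have h3 : ((p : ℝ) ^ 2 - 1) ^ 2 ≤ Complex.normSq (sumP P (oneIrr G)) := by
      rw [← hw1, Complex.normSq_apply, sq]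
      exact le_add_of_nonneg_right (mul_self_nonneg _)
    have h4 : (sumP P χ).re ^ 2 ≤ Complex.normSq (sumP P χ) := by
      rw [Complex.normSq_apply, sq]
      exact le_add_of_nonneg_right (mul_self_nonneg _)
    rw [hB, h] at h2
    linarith
  have hn1 : (1 : ℝ) ≤ nχ := by exact_mod_cast (irr_one χ).2
  have hdD : (St₀.index : ℝ) ≤ (nχ : ℝ) - c one := by
    have : ((c one : ℝ) + St₀.index) ≤ nχ := by exact_mod_cast hD
    linarith
  have hbig' : (nχ : ℝ) * (((p : ℝ) + 1) * (((p : ℝ) - 1) * ((Nat.card G : ℝ) - (sing G p).card) -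
      Nat.card G)) ≤ (sumP P χ).re * ((Nat.card G : ℝ) - (sing G p).card) := by
    simp only [show ((χ : G → ℂ) 1).re = (nχ : ℝ) by rw [(irr_one χ).1, Complex.natCast_re]] at hbig
    refine le_of_mul_le_mul_left ?_ hSpos
    rw [← hXdef]
    linarith
  have hfinal := final_arith hpR hhpos hGpos hSpos hSG hn1 hS hT hbig'
    (show (sumP P χ).re = ((p : ℝ) ^ 2 - 1) * nχ - (p : ℝ) ^ 2 * ((nχ : ℝ) - c one) by
      rw [hwre]; ring) hdD (Nat.cast_nonneg _) hWsq
  linarith

end CfsgLib.PairRankTwo
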