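import Mathlib

/-!
Elementary facts on `2 × 2` matrices over `ZMod p` with one eigenvalue equal to one.
-/

set_option autoImplicit false

namespace CfsgLib.PairRankTwo

open Matrix

variable {p : ℕ} [Fact p.Prime]

/-- Matrices of size two over the prime field. -/
abbrev M2 (p : ℕ) := Matrix (Fin 2) (Fin 2) (ZMod p)

/-- One is an eigenvalue. -/
def Fixes (g : M2 p) : Prop := g.trace = 1 + g.det

theorem cayley (g : M2 p) : g * g = g.trace • g - g.det • (1 : M2 p) := by
  ext i j
  fin_cases i <;> fin_cases j <;>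
    simp [Matrix.mul_apply, Fin.sum_univ_two, Matrix.trace_fin_two, Matrix.det_fin_two] <;> ring

theorem det_sub_one (g : M2 p) : (g - 1).det = 1 + g.det - g.trace := by
  simp [Matrix.trace_fin_two, Matrix.det_fin_two]; ring

theorem fixes_iff (g : M2 p) : Fixes g ↔ (g - 1).det = 0 := by
  rw [det_sub_one, sub_eq_zero, Fixes, eq_comm]

theorem fixes_iff_exists (g : M2 p) : Fixes g ↔ ∃ v : Fin 2 → ZMod p, v ≠ 0 ∧ g *ᵥ v = v := by
  rw [fixes_iff, ← Matrix.exists_mulVec_eq_zero_iff]
  simp only [Matrix.sub_mulVec, Matrix.one_mulVec, sub_eq_zero]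

theorem two_ne_zero' (hp : p ≠ 2) : (2 : ZMod p) ≠ 0 := by
  intro h
  have h' : ((2 : ℕ) : ZMod p) = 0 := by exact_mod_cast h
  rw [ZMod.natCast_eq_zero_iff] at h'
  exact hp ((Nat.prime_dvd_prime_iff_eq Fact.out Nat.prime_two).1 h')

/-- A matrix of finite order prime to `p` with both eigenvalues one is the identity. -/
theorem eq_one_of_trace_two {g : M2 p} {n : ℕ} (hn : ¬ p ∣ n) (hg : g ^ n = 1) (ht : g.trace = 2)
    (hd : g.det = 1) : g = 1 := by
  have hsq : (g - 1) * (g - 1) = 0 := by
    rw [sub_mul, mul_sub, cayley g, ht, hd, one_mul, one_smul, mul_one, two_smul]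
    abel
  have hpow : ∀ m : ℕ, g ^ m = 1 + m • (g - 1) := by
    intro m
    induction m with
    | zero => simp
    | succ m ih =>
      rw [pow_succ, ih]
      have : (1 + m • (g - 1)) * g = (1 + m • (g - 1)) + (1 + m • (g - 1)) * (g - 1) := by
        rw [mul_sub, mul_one, add_sub_cancel]
      rw [this, add_mul, one_mul, smul_mul_assoc, hsq, smul_zero, add_zero, succ_nsmul]
      abel
  have h := hpow n
  rw [hg, left_eq_add, ← Nat.cast_smul_eq_nsmul (ZMod p)] at h
  rcases smul_eq_zero.1 h with h | h
  · exact absurd ((ZMod.natCast_eq_zero_iff n p).1 h) hn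
  · exact sub_eq_zero.1 h

/-- The commutant of a non-scalar matrix. -/
theorem exists_of_commute {s g : M2 p} (hs : ∀ c : ZMod p, s ≠ c • (1 : M2 p))
    (h : g * s = s * g) : ∃ a b : ZMod p, g = a • (1 : M2 p) + b • s := by
  have e00 := congrFun (congrFun h 0) 0
  have e01 := congrFun (congrFun h 0) 1
  have e10 := congrFun (congrFun h 1) 0
  simp only [Matrix.mul_apply, Fin.sum_univ_two] at e00 e01 e10
  by_cases h01 : s 0 1 = 0
  · by_cases h10 : s 1 0 = 0
    · have hd : s 0 0 - s 1 1 ≠ 0 := by
        intro hd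
        refine hs (s 0 0) ?_
        ext i j
        fin_cases i <;> fin_cases j <;> simp [h01, h10, ← sub_eq_zero.1 hd]
      have g01 : g 0 1 = 0 := by
        have : g 0 1 * (s 0 0 - s 1 1) = 0 := by
          rw [h01] at e01; linear_combination (-1 : ZMod p) * e01
        exact (mul_eq_zero.1 this).resolve_right hd
      have g10 : g 1 0 = 0 := by
        have : g 1 0 * (s 0 0 - s 1 1) = 0 := by
          rw [h10] at e10; linear_combination e10
        exact (mul_eq_zero.1 this).resolve_right hd
      refine ⟨g 0 0 - (g 0 0 - g 1 1) / (s 0 0 - s 1 1) * s 0 0,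
        (g 0 0 - g 1 1) / (s 0 0 - s 1 1), ?_⟩
      ext i j
      fin_cases i <;> fin_cases j <;> simp [h01, h10, g01, g10]
      field_simp
      ring
    · refine ⟨g 0 0 - g 1 0 / s 1 0 * s 0 0, g 1 0 / s 1 0, ?_⟩
      ext i j
      fin_cases i <;> fin_cases j <;> simp <;> field_simp
      · linear_combination e00
      · linear_combination e10
  · refine ⟨g 0 0 - g 0 1 / s 0 1 * s 0 0, g 0 1 / s 0 1, ?_⟩
    ext i j
    fin_cases i <;> fin_cases j <;> simp <;> field_simp
    · linear_combination (-1 : ZMod p) * e00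
    · linear_combination (-1 : ZMod p) * e01

/-- Conjugates of `s` commuting with it are `s` or its inverse. -/
theorem eq_or_of_commute (hp : p ≠ 2) {s t : M2 p} (hs : ∀ c : ZMod p, s ≠ c • (1 : M2 p))
    (hd : s.det = 1) (h2 : s.trace * s.trace ≠ 4) (ht : t.trace = s.trace) (htd : t.det = 1)
    (h : t * s = s * t) : t = s ∨ t = s.trace • (1 : M2 p) - s := by
  obtain ⟨a, b, rfl⟩ := exists_of_commute hs h
  set τ := s.trace with hτ
  have e1 : 2 * a + b * τ = τ := by
    rw [Matrix.trace_add, Matrix.trace_smul, Matrix.trace_smul, Matrix.trace_one] at ht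
    simp at ht
    linear_combination ht
  have e2 : a * a + a * b * τ + b * b = 1 := by
    rw [Matrix.det_fin_two] at htd hd
    simp [hτ, Matrix.trace_fin_two] at htd ⊢
    linear_combination htd - b * b * hd
  have e3 : (τ * τ - 4) * ((1 - b) * (1 + b)) = 0 := by
    linear_combination 4 * e2 + (-(2 * a + b * τ) - τ) * e1
  have h2' := two_ne_zero' hp
  rcases (mul_eq_zero.1 ((mul_eq_zero.1 e3).resolve_left (sub_ne_zero.2 h2))) with hb | hb
  · left
    have hb1 : b = 1 := by linear_combination -hb
    have ha : a = 0 := by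
      have : 2 * a = 0 := by rw [hb1] at e1; linear_combination e1
      exact (mul_eq_zero.1 this).resolve_left h2'
    rw [hb1, ha, zero_smul, one_smul, zero_add]
  · right
    have hb1 : b = -1 := by linear_combination hb
    have ha : a = τ := by
      have : 2 * (a - τ) = 0 := by rw [hb1] at e1; linear_combination e1
      exact sub_eq_zero.1 ((mul_eq_zero.1 this).resolve_left h2')
    rw [hb1, ha, neg_smul, one_smul, sub_eq_add_neg]

/-- An element with eigenvalue one inverting `s` has determinant `-1`. -/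
theorem det_of_invert {x s : M2 p} (hx : Fixes x) (hd : s.det = 1)
    (hinv : x * s = (s.trace • (1 : M2 p) - s) * x) (hne : x * s ≠ s * x) : x.det = -1 := by
  have hcomm : x * x * s = s * (x * x) := by
    have h' : x * (s.trace • (1 : M2 p) - s) = s * x := by
      rw [mul_sub, mul_smul_comm, mul_one, hinv, sub_mul, smul_mul_assoc, one_mul]
      abel
    rw [mul_assoc, hinv, ← mul_assoc, h', mul_assoc]
  rw [cayley, sub_mul, mul_sub, smul_mul_assoc, smul_mul_assoc, one_mul, mul_smul_comm,
    mul_smul_comm, mul_one, sub_left_inj] at hcomm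
  have : x.trace = 0 := by
    by_contra h0
    exact hne (smul_right_injective (M2 p) h0 hcomm)
  rw [Fixes, this] at hx
  linear_combination -hx

/-- Two commuting elements with eigenvalues `1, δ` differing by an invertible matrix add up to `1 + δ`. -/
theorem add_eq_of_fixes {z w : M2 p} (hz : Fixes z) (hw : Fixes w) (hd : z.det = w.det)
    (hc : z * w = w * z) (hne : (z - w).det ≠ 0) : z + w = (1 + z.det) • (1 : M2 p) := by
  have e : (z - w) * (z + w - (1 + z.det) • (1 : M2 p)) = 0 := by
    have hz2 := cayley z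
    have hw2 := cayley w
    rw [show z.trace = 1 + z.det from hz] at hz2
    rw [show w.trace = 1 + w.det from hw, ← hd] at hw2
    rw [mul_sub, mul_smul_comm, mul_one, sub_mul, mul_add, mul_add, hc, hz2, hw2, smul_sub]
    abel
  have hu : IsUnit (z - w) := (Matrix.isUnit_iff_isUnit_det _).2 (isUnit_iff_ne_zero.2 hne)
  exact sub_eq_zero.1 (hu.mul_right_eq_zero.1 e)

end CfsgLib.PairRankTwo
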