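import Cfsg.Agent.Blocks.PSolvablePrincipal
import Cfsg.Agent.PLocal.PConstrained

/-!
# The translates of a singular element by a subgroup of order `p`
-/

set_option autoImplicit false
set_option linter.style.haveILetI false

namespace CfsgLib.PairRankTwo

open Subgroup

universe u

variable {G : Type u} [Group G] [Finite G] {p : ℕ}

/-- Above an abelian Sylow subgroup, the `p`-core of a self-centralising group contains every
`p`-element and is abelian. -/
theorem mem_pCore_of_abelian [Fact p.Prime] (hc : CfsgLib.PConstrained.SelfCent p G)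
    (hab : ∀ S : Subgroup G, IsPGroup p S → ∀ a ∈ S, ∀ b ∈ S, a * b = b * a) {x : G}
    (hx : IsPGroup p (zpowers x)) : x ∈ Cfsg.pCore p G := by
  obtain ⟨S, hS⟩ := hx.exists_le_sylow
  have hQS : Cfsg.pCore p G ≤ (S : Subgroup G) := CfsgLib.Fitting.pCore_le_sylow S
  exact hc (mem_centralizer_iff.2 fun r hr =>
    hab _ S.2 r (hQS hr) x (hS (mem_zpowers x)))

/-- At most one element of a coset of the subgroup of order `p` gives a regular element. -/
theorem pow_eq_of_regular [Fact p.Prime]
    (hab : ∀ S : Subgroup G, IsPGroup p S → ∀ a ∈ S, ∀ b ∈ S, a * b = b * a)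
    (hpair : ∀ a b : G, Group.IsSolvable (Subgroup.closure ({a, b} : Set G)))
    {u z : G} (hu : orderOf u = p) {k : centralizer ({u} : Set G)}
    (hk : k ∈ Cfsg.pPrimeCore p (centralizer ({u} : Set G))) (hz : p ∣ orderOf z) {s t : ℕ}
    (hs : ¬ p ∣ orderOf (u ^ s * (k : G) * z)) (ht : ¬ p ∣ orderOf (u ^ t * (k : G) * z)) :
    u ^ s = u ^ t := by
  have hp : p.Prime := Fact.out
  set L := Subgroup.closure ({u * (k : G), z} : Set G) with hL
  haveI : Group.IsSolvable L := hpair _ _
  have hcomm : Commute u (k : G) := (mem_centralizer_singleton_iff.1 k.2).symm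
  have hko : (orderOf (k : G)).Coprime p := by
    rw [orderOf_coe]
    exact (Solvable.coprime_card_pPrimeCore p).coprime_dvd_left (Subgroup.orderOf_dvd_natCard _ hk)
  have hukL : u * (k : G) ∈ L := subset_closure (Set.mem_insert _ _)
  have huL : u ∈ L := by
    obtain ⟨c, hc⟩ := exists_pow_eq_self_of_coprime (x := u) (n := orderOf (k : G)) (by rwa [hu])
    rw [← hc]
    refine pow_mem ?_ c
    have : (u * (k : G)) ^ orderOf (k : G) = u ^ orderOf (k : G) := by
      rw [hcomm.mul_pow, pow_orderOf_eq_one, mul_one]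
    rw [← this]
    exact pow_mem hukL _
  have hkL : (k : G) ∈ L := by
    have := mul_mem (inv_mem huL) hukL
    rwa [inv_mul_cancel_left] at this
  have hzL : z ∈ L := subset_closure (Set.mem_insert_of_mem _ rfl)
  set uL : L := ⟨u, huL⟩
  set kL : L := ⟨k, hkL⟩
  set zL : L := ⟨z, hzL⟩
  haveI : Fintype L := Fintype.ofFinite _
  haveI hOn : (Cfsg.pPrimeCore p L).Normal := Solvable.pPrimeCore_normal p
  set O := Cfsg.pPrimeCore p L with hO
  have hc : CfsgLib.PConstrained.SelfCent p (L ⧸ O) := Block.selfCent_quotient_of_solvable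
  have huLo : orderOf uL = p := by rw [← orderOf_coe]; exact hu
  -- the element of the core lies in the core
  have hkO : kL ∈ O := by
    have hP : IsPGroup p (zpowers uL) :=
      IsPGroup.of_card (n := 1) (by rw [Nat.card_zpowers, huLo, pow_one])
    set Cl := centralizer ((zpowers uL : Subgroup L) : Set L) with hCl
    have hmem : ∀ c : L, c ∈ Cl → (c : G) ∈ centralizer ({u} : Set G) := fun c hc => by
      rw [mem_centralizer_singleton_iff]
      exact (congrArg Subtype.val (mem_centralizer_iff.1 hc uL (mem_zpowers _))).symm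
    let φ : Cl →* centralizer ({u} : Set G) :=
      (L.subtype.comp Cl.subtype).codRestrict _ fun c => hmem c c.2
    have hφ : Function.Injective φ := fun a b h => by
      have := congrArg Subtype.val h
      exact Subtype.ext (Subtype.ext this)
    have hkC : kL ∈ Cl := mem_centralizer_iff.2 fun x hx => by
      obtain ⟨i, rfl⟩ := hx
      exact ((Commute.zpow_left (show Commute uL kL from Subtype.ext hcomm) i)).eq
    have hmemk : (⟨kL, hkC⟩ : Cl) ∈ Cfsg.pPrimeCore p Cl :=
      Solvable.le_pPrimeCore p ((Solvable.pPrimeCore_normal p).comap φ)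
        ((Solvable.coprime_card_pPrimeCore p).coprime_dvd_left
          (card_comap_dvd_of_injective _ φ hφ)) (show φ ⟨kL, hkC⟩ ∈ _ from hk)
    exact ((CfsgLib.PConstrained.pPrimeCore_centralizer_eq hc hP).le ⟨_, hmemk, rfl⟩).1
  set f := QuotientGroup.mk' O with hf
  have hfk : f kL = 1 := (QuotientGroup.eq_one_iff _).2 hkO
  have hcopO : (Nat.card O).Coprime p := Solvable.coprime_card_pPrimeCore p
  -- the Sylow subgroups of the quotient are abelian
  have habQ : ∀ S : Subgroup (L ⧸ O), IsPGroup p S → ∀ a ∈ S, ∀ b ∈ S, a * b = b * a := by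
    intro S hS a ha b hb
    obtain ⟨S', hS'⟩ := hS.exists_le_sylow
    obtain ⟨T, rfl⟩ := Sylow.mapSurjective_surjective (QuotientGroup.mk'_surjective O) p S'
    obtain ⟨a', ha', rfl⟩ := hS' ha
    obtain ⟨b', hb', rfl⟩ := hS' hb
    have := hab _ (T.2.map L.subtype) a' ⟨a', ha', rfl⟩ b' ⟨b', hb', rfl⟩
    rw [← map_mul, ← map_mul, show a' * b' = b' * a' from Subtype.ext this]
  set Q := Cfsg.pCore p (L ⧸ O) with hQ
  have hQp : IsPGroup p Q := Solvable.isPGroup_pCore p
  haveI hQn : Q.Normal := Solvable.pCore_normal p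
  have hfu : orderOf (f uL) = p := by
    refine orderOf_eq_prime (by rw [← map_pow, ← huLo, pow_orderOf_eq_one, map_one]) fun h => ?_
    have := O.orderOf_dvd_natCard ((QuotientGroup.eq_one_iff uL).1 h)
    rw [huLo] at this
    exact hp.coprime_iff_not_dvd.1 hcopO.symm this
  have huQ : f uL ∈ Q := mem_pCore_of_abelian hc habQ
    (IsPGroup.of_card (n := 1) (by rw [Nat.card_zpowers, hfu, pow_one]))
  have hfz : p ∣ orderOf (f zL) := by
    by_contra hm
    set m := orderOf (f zL)
    have hzm : zL ^ m ∈ O :=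
      (QuotientGroup.eq_one_iff _).1 (by change f (zL ^ m) = 1; rw [map_pow, pow_orderOf_eq_one])
    have h1 : orderOf zL ∣ m * orderOf (zL ^ m) :=
      orderOf_dvd_of_pow_eq_one (by rw [pow_mul, pow_orderOf_eq_one])
    have h2 : p ∣ orderOf zL := by rwa [← orderOf_coe]
    rcases (hp.dvd_mul.1 (h2.trans h1)) with h3 | h3
    · exact hm h3
    · exact hp.coprime_iff_not_dvd.1 hcopO.symm (h3.trans (O.orderOf_dvd_natCard hzm))
  have hreg : ∀ i : ℕ, ¬ p ∣ orderOf (u ^ i * (k : G) * z) →
      ¬ p ∣ orderOf (f uL ^ i * f zL) := by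
    intro i hi h
    apply hi
    have e : f uL ^ i * f zL = f (uL ^ i * kL * zL) := by simp [hfk]
    rw [e] at h
    exact (h.trans (orderOf_map_dvd f _)).trans (dvd_of_eq (orderOf_coe _).symm)
  have hs' := hreg s hs
  have ht' := hreg t ht
  set g := f uL ^ s * f zL with hg
  set v := f uL ^ t * (f uL ^ s)⁻¹ with hv
  by_cases hv1 : v = 1
  · have h1 : f uL ^ t = f uL ^ s := mul_inv_eq_one.1 hv1
    rw [pow_eq_pow_iff_modEq, hfu] at h1
    rw [pow_eq_pow_iff_modEq, hu]
    exact h1.symm
  exfalso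
  have hvQ : v ∈ Q := mul_mem (pow_mem huQ _) (inv_mem (pow_mem huQ _))
  let F : ℕ → L ⧸ O → L ⧸ O := fun n x => (x * g) ^ n * (g ^ n)⁻¹
  have hFQ : ∀ n : ℕ, ∀ x ∈ Q, F n x ∈ Q ∧ ∀ y ∈ Q, F n (x * y) = F n x * F n y := by
    intro n
    induction n with
    | zero => intro x hx; simp [F, one_mem]
    | succ n ih =>
      have hstep : ∀ x, F (n + 1) x = F n x * (g ^ n * x * (g ^ n)⁻¹) := fun x => by
        simp only [F, pow_succ, mul_inv_rev, mul_assoc, mul_inv_cancel_left, inv_mul_cancel_left]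
      intro x hx
      refine ⟨?_, fun y hy => ?_⟩
      · rw [hstep]
        exact mul_mem (ih x hx).1 (hQn.conj_mem x hx _)
      · rw [hstep, hstep, hstep, (ih x hx).2 y hy]
        have hc' := habQ Q hQp _ (ih y hy).1 _ (hQn.conj_mem x hx (g ^ n))
        calc F n x * F n y * (g ^ n * (x * y) * (g ^ n)⁻¹)
            = F n x * (F n y * (g ^ n * x * (g ^ n)⁻¹)) * (g ^ n * y * (g ^ n)⁻¹) := by group
          _ = _ := by rw [hc']; group
  set m := orderOf g with hm
  have hFm : ∀ x, F m x = (x * g) ^ m := fun x => by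
    simp only [F, hm, pow_orderOf_eq_one, inv_one, mul_one]
  have hFv : F m v = 1 := by
    have h1 : ¬ p ∣ orderOf (F m v) := by
      rw [hFm, show v * g = f uL ^ t * f zL by rw [hv, hg]; group]
      exact fun h => ht' (h.trans (orderOf_pow_dvd m))
    obtain ⟨j, hj⟩ := IsPGroup.iff_orderOf.1 hQp ⟨_, (hFQ m v hvQ).1⟩
    rw [orderOf_mk] at hj
    rcases Nat.eq_zero_or_pos j with rfl | hj0
    · rwa [pow_zero, orderOf_eq_one_iff] at hj
    · exact absurd (hj ▸ dvd_pow_self p hj0.ne') h1
  have hFpow : ∀ i : ℕ, F m (v ^ i) = 1 := by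
    intro i
    induction i with
    | zero => rw [pow_zero, hFm, one_mul, pow_orderOf_eq_one]
    | succ i ih => rw [pow_succ, (hFQ m _ (pow_mem hvQ i)).2 v hvQ, ih, hFv, one_mul]
  have hvu : v ∈ zpowers (f uL) :=
    mul_mem (pow_mem (mem_zpowers _) _) (inv_mem (pow_mem (mem_zpowers _) _))
  have hzv : zpowers v = zpowers (f uL) := by
    refine Solvable.eq_of_le_of_card_le (zpowers_le.2 hvu) ?_
    have hd : orderOf v ∣ p := by
      rw [← hfu, ← Nat.card_zpowers (f uL)]
      exact Subgroup.orderOf_dvd_natCard _ hvu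
    rcases (Nat.dvd_prime hp).1 hd with h | h
    · exact absurd (orderOf_eq_one_iff.1 h) hv1
    · rw [Nat.card_zpowers, Nat.card_zpowers, hfu, h]
  obtain ⟨i, hi⟩ : (f uL ^ s)⁻¹ ∈ Submonoid.powers v :=
    mem_powers_iff_mem_zpowers.2 (hzv ▸ inv_mem (pow_mem (mem_zpowers _) _))
  have := hFpow i
  rw [hFm, show v ^ i = (f uL ^ s)⁻¹ from hi, hg, inv_mul_cancel_left] at this
  exact hs' (hfz.trans (orderOf_dvd_of_pow_eq_one this))

end CfsgLib.PairRankTwo
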