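import Cfsg.Agent.PairRankTwo.Count
import Cfsg.Agent.ZJ.ConjModule
import Cfsg.Agent.Char.Linear
import Cfsg.Agent.Blocks.Congr
import Mathlib.GroupTheory.Transfer

/-!
# A simple group whose pairs generate solvable subgroups has no Sylow subgroup of order `p`
-/

set_option autoImplicit false
set_option linter.style.haveILetI false
set_option linter.unusedSectionVars false

namespace CfsgLib.PairRankTwo

open Finset CfsgLib.Block CfsgLib.Block.Chr CfsgLib.Char CfsgLib.SectionCount
open scoped ComplexConjugate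

universe u

theorem final_arith_one {p h S G n w d : ℝ} (hp : 5 ≤ p) (hh : 2 ≤ h) (hG : 0 < G)
    (hSG : S < G) (hn : 1 ≤ n) (hS : S * h * p ≤ G * (p - 1))
    (hw : n * ((p - 1) * (G - S) - G) ≤ w * (G - S))
    (hd : w = (p - 1) * n - p * d) (hdD : h ≤ d)
    (hW : w ^ 2 ≤ (p - 1) * (p * h - (p - 1))) : False := by
  set T := (p - 2) * h * p - (p - 1) ^ 2 with hTdef
  have hY : 0 < G - S := by linarith
  have hu : 2 * p ≤ p * h := by nlinarith
  have hT0 : p ^ 2 - 2 * p - 1 ≤ T := by
    have : (p - 2) * (2 * p) ≤ (p - 2) * (p * h) := mul_le_mul_of_nonneg_left hu (by linarith)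
    rw [hTdef]; linarith
  have hc : (14 : ℝ) ≤ p ^ 2 - 2 * p - 1 := by nlinarith
  have hX : G * T ≤ h * p * ((p - 1) * (G - S) - G) := by
    have h1 := mul_le_mul_of_nonneg_left hS (show (0 : ℝ) ≤ p - 1 by linarith)
    rw [hTdef]
    linarith
  have hdY : p * d * (G - S) ≤ n * G := by
    have : w * (G - S) = (p - 1) * n * (G - S) - p * d * (G - S) := by rw [hd]; ring
    linarith
  have hT : 0 < T := by linarith
  have hkey : T ≤ w := by
    have h1 : p * d * (G - S) * T ≤ w * (G - S) * (h * p) := by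
      calc p * d * (G - S) * T ≤ n * G * T := mul_le_mul_of_nonneg_right hdY hT.le
        _ = n * (G * T) := by ring
        _ ≤ n * (h * p * ((p - 1) * (G - S) - G)) := mul_le_mul_of_nonneg_left hX (by linarith)
        _ = n * ((p - 1) * (G - S) - G) * (h * p) := by ring
        _ ≤ _ := mul_le_mul_of_nonneg_right hw (by positivity)
    have h2 : d * T * (p * (G - S)) ≤ w * h * (p * (G - S)) := by linarith
    have h3 : d * T ≤ w * h := le_of_mul_le_mul_right h2 (mul_pos (by linarith) hY)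
    refine le_of_mul_le_mul_right ?_ (show (0 : ℝ) < h by linarith)
    linarith [mul_le_mul_of_nonneg_right hdD hT.le]
  have h4 := pow_le_pow_left₀ hT.le hkey 2
  have h5 : T = (p - 2) * (p * h - 2 * p) + (p ^ 2 - 2 * p - 1) := by rw [hTdef]; ring
  have h6 : T * (p ^ 2 - 2 * p - 1) ≤ T ^ 2 := by
    exact le_of_le_of_eq (mul_le_mul_of_nonneg_left hT0 hT.le) (sq T).symm
  have h7 : (p - 1) * (p * h - 2 * p) ≤ (p ^ 2 - 2 * p - 1) * (p - 2) * (p * h - 2 * p) :=
    mul_le_mul_of_nonneg_right (by nlinarith) (by linarith)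
  have h8 : (p - 1) * (p + 1) < (p ^ 2 - 2 * p - 1) * (p ^ 2 - 2 * p - 1) := by nlinarith
  rw [h5] at h6
  rw [h5] at h4
  linarith

variable {G : Type u} [Group G] [Finite G] {p : ℕ} [Fact p.Prime]

set_option maxHeartbeats 800000 in
/-- No simple group with solvable pairs has such a Sylow subgroup. -/
theorem false_of_rank_one [IsSimpleGroup G] (hnc : ∃ a b : G, a * b ≠ b * a) (hp : 5 ≤ p)
    (P : Sylow p G) (hcard : Nat.card (P : Subgroup G) = p)
    (hsol : ∀ H : Subgroup G, H ≠ ⊤ → Group.IsSolvable H)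
    (hpair : ∀ a b : G, Group.IsSolvable (Subgroup.closure ({a, b} : Set G))) : False := by
  classical
  haveI : Fintype G := Fintype.ofFinite G
  letI := irrFintype (G := G)
  have hpr : p.Prime := Fact.out
  obtain ⟨a₀, b₀, hab₀⟩ := hnc
  have hcard1 : Nat.card (P : Subgroup G) = p ^ 1 := by rw [pow_one, hcard]
  have hab : ∀ S : Subgroup G, IsPGroup p S → ∀ a ∈ S, ∀ b ∈ S, a * b = b * a := by
    intro S hS a ha b hb
    obtain ⟨T, hT⟩ := hS.exists_le_sylow
    haveI : IsCyclic (T : Subgroup G) :=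
      isCyclic_of_prime_card (p := p) (by rw [Nat.card_congr (T.equiv P).toEquiv, hcard])
    exact congrArg Subtype.val
      (IsCyclic.commGroup.mul_comm (⟨a, hT ha⟩ : (T : Subgroup G)) ⟨b, hT hb⟩)
  have hexp : ∀ x ∈ (P : Subgroup G), x ^ p = 1 := fun x hx =>
    orderOf_dvd_iff_pow_eq_one.1 (hcard ▸ Subgroup.orderOf_dvd_natCard _ hx)
  have hsolC : ∀ x : G, x ≠ 1 → Group.IsSolvable (Subgroup.centralizer ({x} : Set G)) := by
    intro x hx
    refine hsol _ fun htop => ?_
    have hxz : x ∈ Subgroup.center G := Subgroup.mem_center_iff.2 fun g =>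
      Subgroup.mem_centralizer_singleton_iff.1 (htop.ge (Subgroup.mem_top g))
    rcases IsSimpleGroup.eq_bot_or_eq_top_of_normal (Subgroup.center G) inferInstance with h | h
    · rw [h, Subgroup.mem_bot] at hxz; exact hx hxz
    · exact hab₀ (Subgroup.mem_center_iff.1 (h.ge (Subgroup.mem_top b₀)) a₀)
  set N := Subgroup.normalizer ((P : Subgroup G) : Set G) with hN
  have hh2 : 2 ≤ (centN (P : Subgroup G)).index := by
    by_contra hlt
    have h1 : (centN (P : Subgroup G)).index = 1 := by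
      have := Nat.pos_of_ne_zero (Subgroup.index_ne_zero_of_finite (H := centN (P : Subgroup G)))
      omega
    have hle : N ≤ Subgroup.centralizer ((P : Subgroup G) : Set G) :=
      Subgroup.subgroupOf_eq_top.1 (Subgroup.index_eq_one.1 h1)
    have hcomp := MonoidHom.ker_transferSylow_isComplement' P hle
    rcases IsSimpleGroup.eq_bot_or_eq_top_of_normal _
      (MonoidHom.normal_ker (MonoidHom.transferSylow P hle)) with h | h
    · rw [h, Subgroup.isComplement'_bot_left] at hcomp
      exact hab₀ (hab _ P.2 a₀ (hcomp.ge (Subgroup.mem_top _)) b₀ (hcomp.ge (Subgroup.mem_top _)))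
    · rw [h, Subgroup.isComplement'_top_left] at hcomp
      rw [hcomp, Subgroup.card_bot] at hcard
      exact hpr.ne_one hcard.symm
  have hgen : ∀ a ∈ psharp (P : Subgroup G), (P : Subgroup G) = Subgroup.zpowers a := fun a ha =>
    (Solvable.eq_of_le_of_card_le (Subgroup.zpowers_le.2 (mem_psharp.1 ha).1)
      (by rw [Nat.card_zpowers, orderOf_of_mem_psharp hexp ha, hcard])).symm
  have hm : ∀ a ∈ psharp (P : Subgroup G),
      (centN (P : Subgroup G)).relIndex (stabN (P : Subgroup G) a) = 1 := by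
    intro a ha
    refine Subgroup.relIndex_eq_one.2 fun n hn => ?_
    refine Subgroup.mem_centralizer_iff.2 fun v hv => ?_
    obtain ⟨i, rfl⟩ := (hgen a ha).le hv
    have hc : Commute a (n : G) := (Subgroup.mem_centralizer_singleton_iff.1 hn).symm
    exact (hc.zpow_left i).eq
  have hN1 : ((psharp (P : Subgroup G)).card : ℝ) = (p : ℝ) - 1 := by
    have h := card_psharp (P : Subgroup G)
    rw [hcard] at h
    have h' : ((psharp (P : Subgroup G)).card : ℝ) + 1 = (p : ℝ) := by exact_mod_cast h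
    linarith
  have hpR : (5 : ℝ) ≤ p := by exact_mod_cast hp
  set h : ℕ := (centN (P : Subgroup G)).index with hh
  have hS : ((sing G p).card : ℝ) * h * (p : ℝ) ≤ (Nat.card G : ℝ) * ((p : ℝ) - 1) := by
    have h1 := sing_bound P hcard1 hexp hab hsolC
    rw [Finset.sum_congr rfl hm, Finset.sum_const, smul_eq_mul, mul_one, ← hh, pow_one] at h1
    have h2 : ((sing G p).card : ℝ) * h * ((p : ℝ) * p) +
        (Nat.card G : ℝ) * (p * (psharp (P : Subgroup G)).card) ≤
        (Nat.card G : ℝ) * (p * (psharp (P : Subgroup G)).card) +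
        (Nat.card G : ℝ) * (p * (psharp (P : Subgroup G)).card) := by exact_mod_cast h1
    rw [hN1] at h2
    refine le_of_mul_le_mul_right ?_ (show (0 : ℝ) < p by linarith)
    linarith
  obtain ⟨M, hM⟩ := exists_isPModular hpr
  haveI : M.IsPrime := hM.2.1.isPrime
  obtain ⟨u₀, hu₀⟩ : (psharp (P : Subgroup G)).Nonempty := by
    rw [← Finset.card_pos]
    have h := card_psharp (P : Subgroup G)
    rw [hcard] at h
    omega
  have hSpos : (0 : ℝ) < (sing G p).card := by
    have : 0 < (sing G p).card := Finset.card_pos.2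
      ⟨u₀, mem_sing.2 (by rw [orderOf_of_mem_psharp hexp hu₀])⟩
    exact_mod_cast this
  have hSG : ((sing G p).card : ℝ) < Nat.card G := by
    have : (sing G p).card < Nat.card G := by
      rw [Nat.card_eq_fintype_card, ← Finset.card_univ]
      refine Finset.card_lt_card (Finset.ssubset_iff.2 ⟨1, fun h => hpr.not_dvd_one ?_,
        Finset.subset_univ _⟩)
      have := mem_sing.1 h
      rwa [orderOf_one] at this
    exact_mod_cast this
  have hGpos : (0 : ℝ) < Nat.card G := by exact_mod_cast Nat.card_pos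
  have hhR : (2 : ℝ) ≤ h := by exact_mod_cast hh2
  set X : ℝ := ((p : ℝ) - 1) * ((Nat.card G : ℝ) - (sing G p).card) - Nat.card G with hXdef
  have hXpos : 0 < X := by
    have h1 : ((sing G p).card : ℝ) * 2 * (p : ℝ) ≤ (Nat.card G : ℝ) * ((p : ℝ) - 1) :=
      le_trans (mul_le_mul_of_nonneg_right (mul_le_mul_of_nonneg_left hhR hSpos.le) (by linarith)) hS
    have h2 := mul_le_mul_of_nonneg_left h1 (show (0 : ℝ) ≤ (p : ℝ) - 1 by linarith)
    have h3 : 0 < (Nat.card G : ℝ) * (2 * p * ((p : ℝ) - 2) - ((p : ℝ) - 1) ^ 2) :=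
      mul_pos hGpos (by nlinarith)
    have h4 : 0 < 2 * (p : ℝ) * X := by rw [hXdef]; linarith
    exact (pos_iff_pos_of_mul_pos h4).1 (by linarith)
  set B := blockSet G M with hB
  have h1B : oneIrr G ∈ B := Finset.mem_filter.2 ⟨mem_univ _, oneIrr_mem_principalBlock⟩
  have hw1 : (sumP P (oneIrr G)).re = (p : ℝ) - 1 := by
    rw [sumP]; simp [hN1]
  have hF1 : Complex.normSq (sumSing p (oneIrr G)) = ((sing G p).card : ℝ) ^ 2 := by
    rw [sumSing]; simp [sq]
  have hlow : ((p : ℝ) - 2) * ((Nat.card G : ℝ) * (sing G p).card) ≤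
      ∑ χ ∈ B, (sumP P χ).re * Complex.normSq (sumSing p χ) / ((χ : G → ℂ) 1).re := by
    have h := weighted_lower P hexp hab hsolC hM hpair
    rw [hN1, Nat.cast_sub (by omega : 2 ≤ p), Nat.cast_sub hpr.one_le] at h
    push_cast at h
    refine le_of_mul_le_mul_left ?_ (show (0 : ℝ) < (p : ℝ) - 1 by linarith)
    linarith
  obtain ⟨χ, hχ, hbig⟩ := exists_big B h1B
    (w := fun χ => (sumP P χ).re) (q := fun χ => Complex.normSq (sumSing p χ))
    (n := fun χ => ((χ : G → ℂ) 1).re)
    (A := ((sing G p).card : ℝ) * X)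
    (Z := ((sing G p).card : ℝ) * ((Nat.card G : ℝ) - (sing G p).card))
    (fun χ _ => Complex.normSq_nonneg _)
    (fun χ _ => by rw [(irr_one χ).1, Complex.natCast_re]; exact_mod_cast (irr_one χ).2)
    (mul_pos hSpos hXpos)
    (by
      refine le_trans (le_of_eq ?_) hlow
      simp only [hw1, hF1, oneIrr_apply, Complex.one_re, div_one, hXdef]
      ring)
    (by
      have h := sum_sq_sumSing (G := G) (p := p)
      have h' : ∑ χ ∈ B.erase (oneIrr G), Complex.normSq (sumSing p χ) +
          Complex.normSq (sumSing p (oneIrr G)) ≤ (Nat.card G : ℝ) * (sing G p).card := by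
        rw [← h, Finset.sum_erase_add _ _ h1B]
        exact Finset.sum_le_univ_sum_of_nonneg fun χ => Complex.normSq_nonneg _
      rw [hF1] at h'
      linarith)
  obtain ⟨hχ1, hχB⟩ := Finset.mem_erase.1 hχ
  -- the restriction to `P`
  haveI : Fintype (P : Subgroup G) := Fintype.ofFinite _
  set θ : ↥(P : Subgroup G) → ℂ := fun v => (χ : G → ℂ) v with hθ
  have hθc : Cfsg.IsCharacter (P : Subgroup G) θ := IsCharacter.restrict (isCharacter_irr χ) _
  have hex : ∀ ψ : ↥(P : Subgroup G) → ℂ, ∃ c : ℕ, ψ ∈ irrFinset (P : Subgroup G) →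
      Cfsg.classInner θ ψ = c := fun ψ => by
    by_cases hψ : ψ ∈ irrFinset (P : Subgroup G)
    · obtain ⟨c, hc⟩ := IsCharacter.exists_classInner_eq_natCast hθc (mem_irrFinset.1 hψ)
      exact ⟨c, fun _ => hc⟩
    · exact ⟨0, fun h => absurd h hψ⟩
  choose c hc using hex
  have hlin : ∀ ψ ∈ irrFinset (P : Subgroup G), ψ 1 = 1 := fun ψ hψ =>
    IsIrrCharacter.apply_one_eq_one (mem_irrFinset.1 hψ) fun a b => Subtype.ext (hab _ P.2 a a.2 b b.2)
  have hexpand : ∀ v, θ v = ∑ ψ ∈ irrFinset (P : Subgroup G), (c ψ : ℂ) * ψ v := by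
    intro v
    conv_lhs => rw [eq_sum_irr (IsCharacter.isClassFunction hθc)]
    rw [Finset.sum_apply]
    exact Finset.sum_congr rfl fun ψ hψ => by rw [Pi.smul_apply, smul_eq_mul, hc ψ hψ]
  set nχ := Cfsg.charDegree (χ : G → ℂ) with hnχ
  have hn : nχ = ∑ ψ ∈ irrFinset (P : Subgroup G), c ψ := by
    have h := hexpand 1
    rw [Finset.sum_congr rfl fun ψ hψ => by rw [hlin ψ hψ, mul_one],
      show θ 1 = (nχ : ℂ) from (irr_one χ).1] at h
    exact_mod_cast h
  set one : ↥(P : Subgroup G) → ℂ := fun _ => 1 with hone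
  have hone_mem : one ∈ irrFinset (P : Subgroup G) := mem_irrFinset.2 (oneIrr (P : Subgroup G)).2
  have hW : sumP P χ = (p : ℂ) * c one - nχ := by
    have h := hc one hone_mem
    rw [Cfsg.classInner] at h
    simp only [hone, map_one, mul_one] at h
    rw [hcard, inv_mul_eq_iff_eq_mul₀ (by exact_mod_cast hpr.pos.ne')] at h
    have h2 : ∑ v : (P : Subgroup G), θ v = sumP P χ + (χ : G → ℂ) 1 := by
      rw [sumP, ← Finset.sum_subtype (insert (1 : G) (psharp (P : Subgroup G)))
        (fun v => by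
          rw [Finset.mem_insert, mem_psharp]
          by_cases hv : v = 1 <;> simp [hv, one_mem]) (fun v => (χ : G → ℂ) v),
        Finset.sum_insert (fun h => (mem_psharp.1 h).2 rfl), add_comm]
    rw [(irr_one χ).1] at h2
    linear_combination h - h2
  obtain ⟨ψ₀, hψ₀, hψ₀1, hψ₀c⟩ :
      ∃ ψ₀ ∈ irrFinset (P : Subgroup G), ψ₀ ≠ one ∧ c ψ₀ ≠ 0 := by
    by_contra hne
    push Not at hne
    have hconst : ∀ v, θ v = θ 1 := fun v => by
      rw [hexpand v, hexpand 1]
      refine Finset.sum_congr rfl fun ψ hψ => ?_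
      by_cases h1 : ψ = one
      · rw [h1]
      · rw [hne ψ hψ h1, Nat.cast_zero, zero_mul, zero_mul]
    obtain ⟨k, σ, hirrσ, hσ⟩ := χ.2
    have hu : σ u₀ = 1 := apply_eq_one_of_character_eq σ (by
      rw [hσ, Module.finrank_fin_fun]
      have := hconst ⟨u₀, (mem_psharp.1 hu₀).1⟩
      show (χ : G → ℂ) u₀ = _
      rw [show (χ : G → ℂ) u₀ = (χ : G → ℂ) 1 from this, ← hσ, σ.char_one, Module.finrank_fin_fun])
    have hker : ∀ g, σ g = 1 := by
      rcases IsSimpleGroup.eq_bot_or_eq_top_of_normal (MonoidHom.ker σ) inferInstance with h | h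
      · exact absurd (Subgroup.mem_bot.1 (h.le (show u₀ ∈ MonoidHom.ker σ from hu)))
          (mem_psharp.1 hu₀).2
      · exact fun g => (h.ge (Subgroup.mem_top g) : g ∈ MonoidHom.ker σ)
    have hχc : ∀ g, (χ : G → ℂ) g = (χ : G → ℂ) 1 := fun g => by
      rw [← hσ]
      show LinearMap.trace ℂ _ (σ g) = LinearMap.trace ℂ _ (σ 1)
      rw [hker g, hker 1]
    have h0 := classInner_irr χ (oneIrr G)
    rw [if_neg hχ1, Cfsg.classInner] at h0
    simp only [hχc, oneIrr_apply, map_one, mul_one, Finset.sum_const, card_univ, nsmul_eq_mul,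
      mul_eq_zero, inv_eq_zero, Nat.cast_eq_zero] at h0
    rcases h0 with h | h | h
    · exact Nat.card_pos.ne' h
    · exact Fintype.card_ne_zero h
    · exact irr_one_ne_zero χ h
  obtain ⟨lam, hlam⟩ := IsCharacter.exists_hom
    (IsIrrCharacter.isCharacter (mem_irrFinset.1 hψ₀)) (hlin ψ₀ hψ₀)
  have hψlam : ∀ v, ψ₀ v = (lam v : ℂ) := fun v => congrFun hlam v
  have hlaminj : Function.Injective lam := by
    rw [← MonoidHom.ker_eq_bot_iff, Subgroup.eq_bot_iff_forall]
    intro v hv
    by_contra hv1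
    apply hψ₀1
    funext w
    have hvo : orderOf v = p := orderOf_eq_prime (Subtype.ext (hexp v v.2)) hv1
    have htop : Subgroup.zpowers v = ⊤ :=
      Subgroup.eq_top_of_card_eq _ (by rw [Nat.card_zpowers, hvo, hcard])
    have hw : w ∈ lam.ker := (Subgroup.zpowers_le.2 hv) (htop.ge (Subgroup.mem_top w))
    rw [hψlam, (hw : lam w = 1)]
    simp [hone]
  -- the orbit of the constituent
  have hD : c one + h ≤ nχ := by
    haveI : Fintype (N ⧸ centN (P : Subgroup G)) := Fintype.ofFinite _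
    let tw : N → ↥(P : Subgroup G) → ℂ := fun n v => ψ₀ (ZJ.conjHom (P : Subgroup G) n v)
    have htw_irr : ∀ n, tw n ∈ irrFinset (P : Subgroup G) := fun n =>
      mem_irrFinset.2 (IsIrrCharacter.comp_surjective (mem_irrFinset.1 hψ₀)
        (ZJ.conjHom (P : Subgroup G) n).toMonoidHom (MulEquiv.surjective _))
    have htw_ne : ∀ n, tw n ≠ one := fun n h => hψ₀1 (funext fun v => by
      obtain ⟨w, rfl⟩ := (ZJ.conjHom (P : Subgroup G) n).surjective v
      exact congrFun h w)
    have htw_c : ∀ n, c (tw n) = c ψ₀ := by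
      intro n
      have h1 := hc _ (htw_irr n)
      have h2 := hc ψ₀ hψ₀
      rw [Cfsg.classInner] at h1 h2
      rw [show (∑ v, θ v * conj (tw n v)) = ∑ v, θ v * conj (ψ₀ v) from
        Fintype.sum_equiv (ZJ.conjHom (P : Subgroup G) n).toEquiv _ _ fun v => by
          show θ v * conj (ψ₀ (ZJ.conjHom (P : Subgroup G) n v)) =
            θ (ZJ.conjHom (P : Subgroup G) n v) * conj (ψ₀ (ZJ.conjHom (P : Subgroup G) n v))
          congr 1
          exact (isClassFunction_irr χ (v : G) (n : G)).symm, h2] at h1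
      exact_mod_cast h1.symm
    let orb : Finset (↥(P : Subgroup G) → ℂ) :=
      Finset.univ.image fun q : N ⧸ centN (P : Subgroup G) => tw q.out⁻¹
    have horb : orb.card = h := by
      rw [Finset.card_image_of_injective, Finset.card_univ, hh, Subgroup.index,
        Nat.card_eq_fintype_card]
      intro q q' h'
      rw [← QuotientGroup.out_eq' q, ← QuotientGroup.out_eq' q', QuotientGroup.eq]
      refine Subgroup.mem_centralizer_iff.2 fun v hv => ?_
      have h2 := congrFun h' (ZJ.conjHom (P : Subgroup G) q'.out ⟨v, hv⟩)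
      simp only [tw, ← MulAut.mul_apply, ← map_mul, inv_mul_cancel, map_one, MulAut.one_apply,
        hψlam] at h2
      have h3 := congrArg Subtype.val (hlaminj (Units.ext h2))
      rw [ZJ.conjHom_apply] at h3
      simp only [Subgroup.coe_subtype] at h3 ⊢
      exact (mul_inv_eq_iff_eq_mul.1 h3).symm
    have hsub : orb ⊆ (irrFinset (P : Subgroup G)).erase one := fun ψ hψ => by
      obtain ⟨q, -, rfl⟩ := Finset.mem_image.1 hψ
      exact Finset.mem_erase.2 ⟨htw_ne _, htw_irr _⟩
    rw [hn, ← Finset.add_sum_erase _ _ hone_mem, ← horb]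
    refine Nat.add_le_add_left (le_trans ?_ (Finset.sum_le_sum_of_subset hsub)) _
    rw [Finset.card_eq_sum_ones]
    refine Finset.sum_le_sum fun ψ hψ => ?_
    obtain ⟨q, -, rfl⟩ := Finset.mem_image.1 hψ
    rw [htw_c]
    exact Nat.one_le_iff_ne_zero.2 hψ₀c
  -- the final inequality
  have hwre : (sumP P χ).re = (p : ℝ) * c one - nχ := by
    rw [hW, ← Nat.cast_mul, Complex.sub_re, Complex.natCast_re, Complex.natCast_re]
    push_cast
    rfl
  have hWsq : (sumP P χ).re ^ 2 ≤ ((p : ℝ) - 1) * ((p : ℝ) * h - ((p : ℝ) - 1)) := by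
    have h' := sum_sq_sumP P hcard1 hexp hab hsolC hM
    rw [Nat.cast_mul, Nat.cast_mul, pow_one, hN1, ← hh] at h'
    have h2 : Complex.normSq (sumP P χ) + Complex.normSq (sumP P (oneIrr G)) ≤
        ∑ ζ ∈ B, Complex.normSq (sumP P ζ) := by
      rw [← Finset.sum_pair (f := fun ζ => Complex.normSq (sumP P ζ)) hχ1]
      exact Finset.sum_le_sum_of_subset_of_nonneg
        (Finset.insert_subset_iff.2 ⟨hχB, Finset.singleton_subset_iff.2 h1B⟩)
        fun ζ _ _ => Complex.normSq_nonneg _
    have h3 : ((p : ℝ) - 1) ^ 2 ≤ Complex.normSq (sumP P (oneIrr G)) := by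
      rw [← hw1, Complex.normSq_apply, sq]
      exact le_add_of_nonneg_right (mul_self_nonneg _)
    have h4 : (sumP P χ).re ^ 2 ≤ Complex.normSq (sumP P χ) := by
      rw [Complex.normSq_apply, sq]
      exact le_add_of_nonneg_right (mul_self_nonneg _)
    rw [hB, h'] at h2
    linarith
  have hn1 : (1 : ℝ) ≤ nχ := by exact_mod_cast (irr_one χ).2
  have hdD : (h : ℝ) ≤ (nχ : ℝ) - c one := by
    have : ((c one : ℝ) + h) ≤ nχ := by exact_mod_cast hD
    linarith
  have hbig' : (nχ : ℝ) * (((p : ℝ) - 1) * ((Nat.card G : ℝ) - (sing G p).card) - Nat.card G) ≤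
      (sumP P χ).re * ((Nat.card G : ℝ) - (sing G p).card) := by
    simp only [show ((χ : G → ℂ) 1).re = (nχ : ℝ) by rw [(irr_one χ).1, Complex.natCast_re]] at hbig
    refine le_of_mul_le_mul_left ?_ hSpos
    rw [← hXdef]
    linarith
  exact final_arith_one hpR hhR hGpos hSG hn1 hS hbig'
    (show (sumP P χ).re = ((p : ℝ) - 1) * nχ - (p : ℝ) * ((nχ : ℝ) - c one) by rw [hwre]; ring)
    hdD hWsq

end CfsgLib.PairRankTwo
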